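import Cfsg.Agent.Lib.FGS.SLComm.Root

/-!
# The data `Alpha F m`

For `m ≥ 2` take `α` in the extension field of degree `m` with prescribed norm and `β = α ^ q`; then
`α / β` generates the field for some choice of `α`.
-/

set_option autoImplicit false

namespace CfsgLib.FGS.SLComm

open LinearMap Polynomial

variable {F : Type*} [Field F]

/-- `m = 0`. -/
noncomputable def alphaZero (F : Type*) [Field F] : Alpha F 0 where
  α := 1
  E := 1
  e := 0
  indep := linearIndependent_empty_type
  h := 1
  kills := LinearMap.ext fun x => Subsingleton.elim _ _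

theorem alphaZero_det : LinearEquiv.det (alphaZero F).α = 1 := map_one _

@[simp] theorem alphaZero_eval (c : F) : (alphaZero F).h.eval c = 1 := eval_one

/-- `m = 1`. -/
noncomputable def alphaOne (e : Fˣ) : Alpha F 1 where
  α := conjE (LinearEquiv.funUnique (Fin 1) F F).symm (smulE e)
  E := 1
  e := fun _ => 1
  indep := by
    rw [Fintype.linearIndependent_iff]
    intro g hg i
    rw [Subsingleton.elim i 0]
    simpa using congrFun hg 0
  h := X - C (e : F)
  kills := by
    refine LinearMap.ext fun x => funext fun i => ?_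
    rw [Subsingleton.elim i 0]
    simp

theorem alphaOne_det (e : Fˣ) : LinearEquiv.det (alphaOne e).α = e :=
  (det_conjE _ _).trans (det_smulE e)

@[simp] theorem alphaOne_eval (e : Fˣ) (c : F) : (alphaOne e).h.eval c = c - e := by simp [alphaOne]

section Field

variable {K : Type*} [Field K] [Algebra F K] [Finite K]

/-- Multiplication by a unit. -/
noncomputable def mulE (F : Type*) [Field F] [Algebra F K] (a : Kˣ) : K ≃ₗ[F] K where
  toFun x := (a : K) * x
  invFun x := ((a⁻¹ : Kˣ) : K) * x
  map_add' := mul_add _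
  map_smul' c x := by simp
  left_inv x := by simp
  right_inv x := by simp

@[simp] theorem mulE_apply (a : Kˣ) (x : K) : mulE F a x = (a : K) * x := rfl

/-- Elements of small degree are fixed by a power of Frobenius. -/
theorem pow_natDegree_minpoly (x : K) : x ^ (Nat.card F ^ (minpoly F x).natDegree) = x := by
  haveI : Module.Finite F K := Module.Finite.of_finite
  have hx : IsIntegral F x := IsIntegral.of_finite F x
  haveI : Finite (IntermediateField.adjoin F {x}) := inferInstance
  haveI : Fintype (IntermediateField.adjoin F {x}) := Fintype.ofFinite _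
  have h := FiniteField.pow_card (⟨x, IntermediateField.mem_adjoin_simple_self F x⟩ :
    IntermediateField.adjoin F {x})
  rw [← Nat.card_eq_fintype_card, Module.natCard_eq_pow_finrank (K := F),
    IntermediateField.adjoin.finrank hx] at h
  exact congrArg Subtype.val h

end Field

theorem sum_pow_lt (q : ℕ) (hq : 2 ≤ q) (h : ℕ) :
    ∑ d ∈ Finset.range h, (q - 1) * q ^ (d + 1) < q ^ (h + 1) := by
  induction h with
  | zero => simp; omega
  | succ h ih =>
    rw [Finset.sum_range_succ, pow_succ q (h + 1), Nat.mul_comm (q ^ (h + 1)) q]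
    have : (q - 1) * q ^ (h + 1) + q ^ (h + 1) = q * q ^ (h + 1) := by
      rw [← Nat.succ_mul]; congr 1; omega
    omega

open scoped Classical in
/-- The element of the extension field. -/
theorem exists_good [Finite F] {K : Type*} [Field K] [Algebra F K] [Finite K] {m : ℕ}
    (hm : Module.finrank F K = m) (hm2 : 2 ≤ m) (δ : Fˣ)
    (hex : m = 2 → Nat.card F = 3 → δ = -1) :
    ∃ a : Kˣ, Algebra.norm F (a : K) = δ ∧
      (minpoly F (a : K)).natDegree = m ∧ (minpoly F ((a : K) / (a : K) ^ Nat.card F)).natDegree = m := by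
  classical
  haveI := Fintype.ofFinite K
  haveI : Module.Finite F K := Module.Finite.of_finite
  set q := Nat.card F with hq
  have hq2 : 2 ≤ q := Finite.one_lt_card
  have hK : Nat.card K = q ^ m := by rw [Module.natCard_eq_pow_finrank (K := F), hm]
  let ν : Kˣ →* Fˣ := Units.map (Algebra.norm F (S := K) : K →* F)
  have hν : Function.Surjective ν := FiniteField.unitsMap_norm_surjective F K
  have hFu : Nat.card Fˣ = q - 1 := Nat.card_units F
  have hKu : Nat.card Kˣ = q ^ m - 1 := by rw [Nat.card_units, hK]
  have hker : Nat.card ν.ker * (q - 1) = q ^ m - 1 := by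
    rw [← hKu, ← hFu, ← Subgroup.card_mul_index ν.ker, Subgroup.index_ker,
      MonoidHom.range_eq_top.mpr hν, Subgroup.card_top]
  set fib : Finset Kˣ := Finset.univ.filter fun a => ν a = δ with hfibdef
  have hfib : fib.card = Nat.card ν.ker := by
    obtain ⟨a₀, ha₀⟩ := hν δ
    rw [Nat.card_eq_fintype_card, ← Finset.card_univ]
    refine (Finset.card_bij (fun (k : ν.ker) _ => a₀ * (k : Kˣ)) (fun k _ => ?_) (fun k _ l _ h => ?_)
      (fun a ha => ?_)).symm
    · have hk : ν (k : Kˣ) = 1 := k.2
      simp [hfibdef, ha₀, hk]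
    · exact Subtype.ext (mul_left_cancel h)
    · have ha' : ν a = δ := by simpa [hfibdef] using ha
      exact ⟨⟨a₀⁻¹ * a, by simp [MonoidHom.mem_ker, ha₀, ha']⟩, Finset.mem_univ _, by simp⟩
  -- it suffices to avoid the subfields
  suffices h : ∃ a ∈ fib, ∀ d, 1 ≤ d → 2 * d ≤ m → a ^ ((q - 1) * (q ^ d - 1)) ≠ 1 by
    obtain ⟨a, ha, hgood⟩ := h
    have hna : ν a = δ := by simpa [hfibdef] using ha
    refine ⟨a, congrArg Units.val hna, ?_⟩
    have key : ∀ d, 1 ≤ d → 2 * d ≤ m →
        ((a : K) / (a : K) ^ q) ^ q ^ d ≠ (a : K) / (a : K) ^ q := by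
      intro d h1 h2 heq
      apply hgood d h1 h2
      have e : a / a ^ q = (a ^ (q - 1))⁻¹ := by
        rw [eq_inv_iff_mul_eq_one, div_mul_eq_mul_div, div_eq_one, ← pow_succ']
        congr 1; omega
      have heq' : (a / a ^ q) ^ q ^ d = a / a ^ q := Units.ext (by simpa using heq)
      rw [e, inv_pow, inv_inj, ← pow_mul] at heq'
      have hpos : 1 ≤ q ^ d := Nat.one_le_pow _ _ (by omega)
      have : a ^ ((q - 1) * (q ^ d - 1)) * a ^ (q - 1) = a ^ (q - 1) := by
        rw [← pow_add, ← Nat.mul_add_one, Nat.sub_add_cancel hpos, heq']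
      exact mul_eq_right.mp this
    have main : ∀ x : K, (∀ d, 1 ≤ d → 2 * d ≤ m → x ^ q ^ d ≠ x) → (minpoly F x).natDegree = m := by
      intro x hx
      obtain ⟨k, hk⟩ : (minpoly F x).natDegree ∣ m := hm ▸ minpoly.degree_dvd (IsIntegral.of_finite F x)
      have hpos : 0 < (minpoly F x).natDegree := minpoly.natDegree_pos (IsIntegral.of_finite F x)
      by_contra hne
      refine hx _ hpos ?_ (pow_natDegree_minpoly x)
      rcases Nat.lt_or_ge k 2 with hk2 | hk2
      · interval_cases k
        · omega
        · omega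
      · calc 2 * (minpoly F x).natDegree ≤ k * (minpoly F x).natDegree := by gcongr
          _ = m := by rw [hk]; ring
    refine ⟨main _ fun d h1 h2 heq => key d h1 h2 ?_, main _ key⟩
    rw [div_pow, ← pow_mul, mul_comm, pow_mul, heq]
  by_contra hcon
  push Not at hcon
  rcases (show m = 2 ∨ 3 ≤ m by omega) with rfl | hm3
  · -- quadratic extension
    have hN : fib.card = q + 1 := by
      rw [hfib]
      refine Nat.eq_of_mul_eq_mul_right (show 0 < q - 1 by omega) ?_
      rw [hker, ← Nat.sq_sub_sq q 1, one_pow]
    have hall : ∀ a ∈ fib, a ^ ((q - 1) * (q - 1)) = 1 ∧ a ^ (q + 1) = Units.map (algebraMap F K : F →* K) δ := by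
      intro a ha
      obtain ⟨d, h1, h2, h3⟩ := hcon a ha
      obtain rfl : d = 1 := by omega
      refine ⟨by simpa using h3, ?_⟩
      have hna : ν a = δ := by simpa [hfibdef] using ha
      apply Units.ext
      have h := FiniteField.algebraMap_norm_eq_pow (K := F) (x := (a : K))
      have he : (Nat.card K - 1) / (Nat.card F - 1) = q + 1 := by
        rw [hK, ← hq]
        refine Nat.div_eq_of_eq_mul_left (by omega) ?_
        rw [← Nat.sq_sub_sq q 1, one_pow]
      rw [he] at h
      rw [Units.val_pow_eq_pow_val, ← h, ← hna]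
      rfl
    rcases (show q = 2 ∨ q = 3 ∨ 4 ≤ q by omega) with h2 | h3 | h4
    · have : fib ⊆ {1} := fun a ha => by
        have := (hall a ha).1
        rw [h2] at this
        simpa using this
      have := Finset.card_le_card this
      rw [hN, h2, Finset.card_singleton] at this
      omega
    · obtain ⟨a, ha⟩ : fib.Nonempty := Finset.card_pos.mp (by omega)
      obtain ⟨e1, e2⟩ := hall a ha
      rw [h3] at e1 e2
      norm_num at e1 e2
      rw [e1] at e2
      have hδ := hex rfl h3
      have : (algebraMap F K) (δ : F) = algebraMap F K 1 := by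
        rw [map_one]; exact (congrArg Units.val e2).symm
      rw [hδ, Units.val_neg, Units.val_one] at this
      have h4 := (algebraMap F K).injective this
      haveI := Fintype.ofFinite F
      have h5 : (2 : F) = 0 := by linear_combination -h4
      have h6 : ((Fintype.card F : ℕ) : F) = 0 := Nat.cast_card_eq_zero F
      rw [← Nat.card_eq_fintype_card, show Nat.card F = 3 from h3] at h6
      have h7 : (3 : F) = 0 := by exact_mod_cast h6
      exact one_ne_zero (α := F) (by linear_combination h7 - h5)
    · obtain ⟨a₀, ha₀⟩ : fib.Nonempty := Finset.card_pos.mp (by omega)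
      have hle : fib.card ≤ (Finset.univ.filter fun x : Kˣ => x ^ 4 = 1).card := by
        refine Finset.card_le_card_of_injOn (fun a => a * a₀⁻¹) (fun a ha => ?_)
          (fun a _ b _ h => mul_right_cancel h)
        simp only [Finset.coe_filter, Finset.mem_univ, true_and, Set.mem_setOf_eq]
        have e : ∀ b ∈ fib, (Units.map (algebraMap F K : F →* K) δ) ^ (q - 3) * b ^ 4 = 1 := by
          intro b hb
          rw [← (hall b hb).2, ← pow_mul, ← pow_add, ← (hall b hb).1]
          congr 1
          obtain ⟨k, hk⟩ : ∃ k, q = k + 3 := ⟨q - 3, by omega⟩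
          rw [hk, Nat.add_sub_cancel, show k + 3 - 1 = k + 2 by omega]
          ring
        rw [mul_pow, inv_pow, mul_inv_eq_one]
        exact mul_left_cancel ((e a ha).trans (e a₀ ha₀).symm)
      have := hle.trans (IsCyclic.card_pow_eq_one_le (α := Kˣ) (by norm_num : 0 < 4))
      omega
  · -- degree at least three
    have hbig : q ^ (m / 2 + 1) ≤ fib.card := by
      refine le_trans (Nat.pow_le_pow_right (by omega) (show m / 2 + 1 ≤ m - 1 by omega)) ?_
      rw [hfib]
      refine Nat.le_of_mul_le_mul_right ?_ (show 0 < q - 1 by omega)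
      rw [hker, Nat.mul_sub, mul_one, ← pow_succ, Nat.sub_add_cancel (by omega)]
      have : 1 ≤ q ^ (m - 1) := Nat.one_le_pow _ _ (by omega)
      omega
    have hsub : fib ⊆ (Finset.range (m / 2)).biUnion
        (fun d => Finset.univ.filter fun x : Kˣ => x ^ ((q - 1) * (q ^ (d + 1) - 1)) = 1) := by
      intro a ha
      obtain ⟨d, h1, h2, h3⟩ := hcon a ha
      refine Finset.mem_biUnion.mpr ⟨d - 1, Finset.mem_range.mpr (by omega), ?_⟩
      simp only [Finset.mem_filter, Finset.mem_univ, true_and]
      rwa [Nat.sub_add_cancel h1]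
    have hle := (Finset.card_le_card hsub).trans Finset.card_biUnion_le
    have hpos : ∀ d, 0 < (q - 1) * (q ^ (d + 1) - 1) := fun d =>
      Nat.mul_pos (by omega) (Nat.sub_pos_of_lt (Nat.one_lt_pow (Nat.succ_ne_zero d) (by omega)))
    have hle2 : fib.card ≤ ∑ d ∈ Finset.range (m / 2), (q - 1) * q ^ (d + 1) :=
      hle.trans (Finset.sum_le_sum fun d _ => (IsCyclic.card_pow_eq_one_le (α := Kˣ) (hpos d)).trans
        (Nat.mul_le_mul_left _ (Nat.sub_le _ _)))
    exact absurd (hbig.trans hle2) (not_le.mpr (sum_pow_lt q hq2 (m / 2)))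

/-- The data for `m ≥ 2`. -/
theorem exists_alpha [Finite F] {m : ℕ} (hm2 : 2 ≤ m) (δ : Fˣ)
    (hex : m = 2 → Nat.card F = 3 → δ = -1) :
    ∃ D : Alpha F m, LinearEquiv.det D.α = δ ∧ Irreducible D.h ∧ D.h.natDegree = m := by
  classical
  obtain ⟨p, _⟩ := CharP.exists F
  haveI : Fact p.Prime := ⟨(CharP.char_is_prime_or_zero F p).resolve_right fun h0 => by
    subst h0
    haveI := CharP.charP_to_charZero F
    exact not_finite F⟩
  haveI : NeZero m := ⟨by omega⟩
  let K := FiniteField.Extension F p m
  have hK : Module.finrank F K = m := FiniteField.finrank_extension F p m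
  haveI : Finite K := inferInstance
  haveI : Module.Finite F K := Module.Finite.of_finite
  haveI := Fintype.ofFinite F
  obtain ⟨a, hna, hda, hdt⟩ := exists_good hK hm2 δ hex
  let e : K ≃ₗ[F] (Fin m → F) := (Module.finBasisOfFinrankEq F K hK).equivFun
  let σ : K ≃ₗ[F] K := (FiniteField.Extension.frob F p m).toLinearEquiv
  have hσ : conjE σ (mulE F a) = mulE F (a ^ Nat.card F) := by
    refine LinearEquiv.ext fun x => ?_
    change FiniteField.Extension.frob F p m ((a : K) * (FiniteField.Extension.frob F p m).symm x) = _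
    rw [map_mul, AlgEquiv.apply_symm_apply, FiniteField.Extension.frob_apply]
    simp
  set t : Kˣ := a / a ^ Nat.card F with ht
  have hθ : conjE e (mulE F a) * (conjE (conjE e σ) (conjE e (mulE F a)))⁻¹ = conjE e (mulE F t) := by
    have h1 : conjE (conjE e σ) (conjE e (mulE F a)) = conjE e (conjE σ (mulE F a)) :=
      LinearEquiv.ext fun x => by simp [conjE]
    rw [h1, hσ, ← conjE_inv, ← conjE_mul]
    congr 1
    refine LinearEquiv.ext fun x => ?_
    change (a : K) * (((a ^ Nat.card F)⁻¹ : Kˣ) * x) = (t : K) * x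
    rw [← mul_assoc, ← Units.val_mul, ← div_eq_mul_inv]
  have hli : LinearIndependent F fun j : Fin m =>
      ((conjE e (mulE F a) * (conjE (conjE e σ) (conjE e (mulE F a)))⁻¹) ^ (j : ℕ)) (e 1) := by
    rw [hθ]
    have hp : ∀ j : ℕ, ((conjE e (mulE F t)) ^ j) (e 1) = e ((t : K) ^ j) := by
      intro j
      induction j with
      | zero => simp
      | succ j ih =>
        rw [pow_succ', LinearEquiv.mul_apply, ih]
        simp [pow_succ']
    simp only [hp]
    have h0 := linearIndependent_pow (K := F) (t : K)
    have hd : (minpoly F (t : K)).natDegree = m := by simpa [ht] using hdt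
    have h1 := (h0.comp (Fin.cast hd.symm) (Fin.cast_injective _)).map' e.toLinearMap e.ker
    simpa [Function.comp_def] using h1
  refine ⟨⟨conjE e (mulE F a), conjE e σ, e 1, hli, minpoly F (a : K), ?_⟩, ?_,
    minpoly.irreducible (IsIntegral.of_finite F _), hda⟩
  · have h1 : (conjE e (mulE F a) : Module.End F (Fin m → F)) =
        e.conjAlgEquiv F (Algebra.lmul F K (a : K)) := rfl
    rw [h1, aeval_algEquiv, AlgHom.coe_comp, Function.comp_apply, aeval_algHom_apply, minpoly.aeval,
      map_zero, map_zero]
  · rw [det_conjE]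
    apply Units.ext
    rw [LinearEquiv.coe_det, ← hna, Algebra.norm_apply]
    rfl

/-- Roots are excluded. -/
theorem eval_ne_zero_of_irreducible {h : F[X]} (hi : Irreducible h) (hd : 2 ≤ h.natDegree) (c : F) :
    h.eval c ≠ 0 := by
  intro h0
  have hroot : (X - C c) ∣ h := dvd_iff_isRoot.mpr h0
  have := natDegree_eq_of_degree_eq (degree_eq_degree_of_associated
    ((irreducible_X_sub_C c).associated_of_dvd hi hroot))
  rw [natDegree_X_sub_C] at this
  omega

/-- The missing case `q = 3`, `m = 2`, determinant `1`. -/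
theorem exists_alpha_three [Finite F] (h3 : Nat.card F = 3) :
    ∃ D : Alpha F 2, LinearEquiv.det D.α = 1 ∧ ∀ c : F, D.h.eval c ≠ 0 := by
  classical
  haveI := Fintype.ofFinite F
  rw [Nat.card_eq_fintype_card] at h3
  let α : (Fin 2 → F) ≃ₗ[F] (Fin 2 → F) :=
    { toFun := fun w => ![-(w 1), w 0]
      invFun := fun w => ![w 1, -(w 0)]
      map_add' := fun v w => by ext i; fin_cases i <;> simp [add_comm]
      map_smul' := fun c w => by ext i; fin_cases i <;> simp
      left_inv := fun w => by ext i; fin_cases i <;> simp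
      right_inv := fun w => by ext i; fin_cases i <;> simp }
  let E : (Fin 2 → F) ≃ₗ[F] (Fin 2 → F) :=
    { toFun := fun w => ![w 0 + w 1, w 1]
      invFun := fun w => ![w 0 - w 1, w 1]
      map_add' := fun v w => by ext i; fin_cases i <;> simp; ring
      map_smul' := fun c w => by ext i; fin_cases i <;> simp [mul_add]
      left_inv := fun w => by ext i; fin_cases i <;> simp
      right_inv := fun w => by ext i; fin_cases i <;> simp }
  refine ⟨⟨α, E, ![1, 0], ?_, X ^ 2 + 1, ?_⟩, ?_, ?_⟩
  · have hθe : (α * (conjE E α)⁻¹) (![1, 0] : Fin 2 → F) = ![1, -1] := by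
      change α (E (α.symm (E.symm ![1, 0]))) = _
      ext i; fin_cases i <;> simp [α, E]
    rw [Fintype.linearIndependent_iff]
    intro g hg
    simp only [Fin.sum_univ_two, Fin.val_zero, Fin.val_one, pow_zero, pow_one, hθe] at hg
    have h0 := congrFun hg 0
    have h1 := congrFun hg 1
    simp at h0 h1
    intro i
    fin_cases i
    · simp only [Fin.zero_eta]; linear_combination h0 - h1
    · simp only [Fin.mk_one]; exact h1
  · refine LinearMap.ext fun w => funext fun i => ?_
    fin_cases i <;> simp [α, pow_two]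
  · apply Units.ext
    rw [LinearEquiv.coe_det, ← LinearMap.det_toMatrix', Units.val_one, Matrix.det_fin_two]
    simp [LinearMap.toMatrix'_apply, α]
  · intro c h
    simp only [eval_add, eval_pow, eval_X, eval_one] at h
    have hc := FiniteField.pow_card c
    rw [h3] at hc
    have h30 : ((Fintype.card F : ℕ) : F) = 0 := Nat.cast_card_eq_zero F
    rw [h3, Nat.cast_ofNat] at h30
    have h1 : c = 0 := by linear_combination c * h30 + hc - c * h
    rw [h1] at h
    simp at h

end CfsgLib.FGS.SLComm
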