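import Mathlib

/-!
# Factorisations `g = a * b⁻¹` with `a`, `b` in prescribed similarity classes

`Fac g A B` says that `g` is `a * b⁻¹` with `a` similar to `A` and `b` similar to `B`; `Chain g c c' δ`
says that `A = X × c`, `B = X × c'` for some `X` of determinant `δ`. Chains compose on direct sums, and
a chain from `c` to `c` with `δ * c = 1` gives a commutator of elements of determinant one.
-/

set_option autoImplicit false

namespace CfsgLib.FGS.SLComm

open LinearMap

universe u v v' w w'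

variable {F : Type u} [Field F]

section Conj

variable {V : Type v} {W : Type w} {U : Type w'} [AddCommGroup V] [Module F V] [AddCommGroup W] [Module F W]
  [AddCommGroup U] [Module F U]

/-- Transport of an automorphism. -/
def conjE (e : W ≃ₗ[F] V) (A : W ≃ₗ[F] W) : V ≃ₗ[F] V := (e.symm.trans A).trans e

@[simp] theorem conjE_apply (e : W ≃ₗ[F] V) (A : W ≃ₗ[F] W) (x : V) : conjE e A x = e (A (e.symm x)) := rfl

theorem conjE_mul (e : W ≃ₗ[F] V) (A B : W ≃ₗ[F] W) : conjE e (A * B) = conjE e A * conjE e B :=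
  LinearEquiv.ext fun x => by simp

theorem conjE_inv (e : W ≃ₗ[F] V) (A : W ≃ₗ[F] W) : conjE e A⁻¹ = (conjE e A)⁻¹ := rfl

theorem conjE_conjE (e : W ≃ₗ[F] V) (e' : U ≃ₗ[F] W) (A : U ≃ₗ[F] U) :
    conjE e (conjE e' A) = conjE (e'.trans e) A := rfl

theorem det_conjE (e : W ≃ₗ[F] V) (A : W ≃ₗ[F] W) : LinearEquiv.det (conjE e A) = LinearEquiv.det A :=
  LinearEquiv.det_conj A e

theorem conjE_self (a : V ≃ₗ[F] V) (b : V ≃ₗ[F] V) : conjE a b = a * b * a⁻¹ := rfl

end Conj

variable {V : Type v} {V' : Type v'} [AddCommGroup V] [Module F V] [AddCommGroup V'] [Module F V']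

/-- A commutator of automorphisms of determinant one. -/
def IsComm (g : Module.End F V) : Prop :=
  ∃ a b : V ≃ₗ[F] V, LinearEquiv.det a = 1 ∧ LinearEquiv.det b = 1 ∧ g = ↑(a * b * a⁻¹ * b⁻¹)

theorem IsComm.equiv {g : Module.End F V} {g' : Module.End F V'} (e : V ≃ₗ[F] V')
    (he : ∀ x, e (g x) = g' (e x)) (h : IsComm g) : IsComm g' := by
  obtain ⟨a, b, ha, hb, rfl⟩ := h
  refine ⟨conjE e a, conjE e b, by rw [det_conjE, ha], by rw [det_conjE, hb], ?_⟩
  refine LinearMap.ext fun y => ?_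
  rw [← conjE_inv, ← conjE_inv, ← conjE_mul, ← conjE_mul, ← conjE_mul]
  have h := he (e.symm y)
  rw [LinearEquiv.apply_symm_apply] at h
  exact h.symm

theorem IsComm.prod [FiniteDimensional F V] [FiniteDimensional F V'] {g : Module.End F V}
    {g' : Module.End F V'} (h : IsComm g) (h' : IsComm g') : IsComm (g.prodMap g') := by
  obtain ⟨a, b, ha, hb, rfl⟩ := h
  obtain ⟨a', b', ha', hb', rfl⟩ := h'
  have key : ∀ (x : V ≃ₗ[F] V) (y : V' ≃ₗ[F] V'), LinearEquiv.det x = 1 → LinearEquiv.det y = 1 →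
      LinearEquiv.det (x.prodCongr y) = 1 := fun x y hx hy => by
    apply Units.ext
    rw [LinearEquiv.coe_det, LinearEquiv.coe_prodCongr, det_prodMap, ← LinearEquiv.coe_det,
      ← LinearEquiv.coe_det, hx, hy, Units.val_one, one_mul]
  exact ⟨a.prodCongr a', b.prodCongr b', key a a' ha ha', key b b' hb hb', LinearMap.ext fun x => rfl⟩

theorem isComm_of_subsingleton [Subsingleton V] (g : Module.End F V) : IsComm g :=
  ⟨1, 1, map_one _, map_one _, LinearMap.ext fun _ => Subsingleton.elim _ _⟩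

/-- `g = a * b⁻¹` with `a` similar to `A` and `b` similar to `B`. -/
def Fac {W : Type w} [AddCommGroup W] [Module F W] (g : Module.End F V) (A B : W ≃ₗ[F] W) : Prop :=
  ∃ P Q : W ≃ₗ[F] V, g = ↑(conjE P A * (conjE Q B)⁻¹)

variable {W : Type w} {W' : Type w'} [AddCommGroup W] [Module F W] [AddCommGroup W'] [Module F W']

theorem Fac.equiv {g : Module.End F V} {g' : Module.End F V'} {A B : W ≃ₗ[F] W} (e : V ≃ₗ[F] V')
    (he : ∀ x, e (g x) = g' (e x)) (h : Fac g A B) : Fac g' A B := by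
  obtain ⟨P, Q, rfl⟩ := h
  refine ⟨P.trans e, Q.trans e, ?_⟩
  refine LinearMap.ext fun y => ?_
  rw [← conjE_conjE, ← conjE_conjE, ← conjE_inv, ← conjE_mul]
  have h := he (e.symm y)
  rw [LinearEquiv.apply_symm_apply] at h
  exact h.symm

theorem Fac.congr {g : Module.End F V} {A B : W ≃ₗ[F] W} {A' B' : W' ≃ₗ[F] W'} (h : Fac g A B)
    (E E' : W' ≃ₗ[F] W) (hA : A = conjE E A') (hB : B = conjE E' B') : Fac g A' B' := by
  obtain ⟨P, Q, rfl⟩ := h
  exact ⟨E.trans P, E'.trans Q, by rw [hA, hB, conjE_conjE, conjE_conjE]⟩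

theorem conjE_prod {U : Type*} {U' : Type*} [AddCommGroup U] [Module F U] [AddCommGroup U'] [Module F U']
    (P : U ≃ₗ[F] V) (P' : U' ≃ₗ[F] V') (A : U ≃ₗ[F] U) (A' : U' ≃ₗ[F] U') :
    conjE (P.prodCongr P') (A.prodCongr A') = (conjE P A).prodCongr (conjE P' A') := rfl

theorem Fac.prod {g : Module.End F V} {g' : Module.End F V'} {A B : W ≃ₗ[F] W} {A' B' : W' ≃ₗ[F] W'}
    (h : Fac g A B) (h' : Fac g' A' B') : Fac (g.prodMap g') (A.prodCongr A') (B.prodCongr B') := by
  obtain ⟨P, Q, rfl⟩ := h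
  obtain ⟨P', Q', rfl⟩ := h'
  exact ⟨P.prodCongr P', Q.prodCongr Q', LinearMap.ext fun x => rfl⟩

/-- Multiplication by a unit on the field. -/
def smulE (c : Fˣ) : F ≃ₗ[F] F :=
  LinearEquiv.smulOfUnit c

@[simp] theorem smulE_apply (c : Fˣ) (x : F) : smulE c x = (c : F) * x := rfl

theorem det_smulE (c : Fˣ) : LinearEquiv.det (smulE c) = c := by
  apply Units.ext
  rw [LinearEquiv.coe_det]
  have : (smulE c : F →ₗ[F] F) = LinearMap.mulLeft F (c : F) := LinearMap.ext fun x => rfl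
  rw [this, det_mulLeft]

/-- A chain step from `c` to `c'`. -/
def Chain (g : Module.End F V) (c c' : Fˣ) (δ : Fˣ) : Prop :=
  ∃ (r : ℕ) (X : (Fin r → F) ≃ₗ[F] (Fin r → F)), LinearEquiv.det X = δ ∧
    Fac g (X.prodCongr (smulE c)) (X.prodCongr (smulE c'))

theorem Chain.equiv {g : Module.End F V} {g' : Module.End F V'} {c c' δ : Fˣ} (e : V ≃ₗ[F] V')
    (he : ∀ x, e (g x) = g' (e x)) (h : Chain g c c' δ) : Chain g' c c' δ := by
  obtain ⟨r, X, hX, h⟩ := h
  exact ⟨r, X, hX, h.equiv e he⟩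

theorem det_prodCongr {U U' : Type*} [AddCommGroup U] [Module F U] [AddCommGroup U'] [Module F U']
    [FiniteDimensional F U] [FiniteDimensional F U'] (x : U ≃ₗ[F] U) (y : U' ≃ₗ[F] U') :
    LinearEquiv.det (x.prodCongr y) = LinearEquiv.det x * LinearEquiv.det y := by
  apply Units.ext
  rw [Units.val_mul, LinearEquiv.coe_det, LinearEquiv.coe_det, LinearEquiv.coe_det,
    LinearEquiv.coe_prodCongr, det_prodMap]

/-- A chain is built from any finite dimensional `X`. -/
theorem Chain.mk' {U : Type*} [AddCommGroup U] [Module F U] [FiniteDimensional F U] {g : Module.End F V}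
    {c c' : Fˣ} (X : U ≃ₗ[F] U) (h : Fac g (X.prodCongr (smulE c)) (X.prodCongr (smulE c'))) :
    Chain g c c' (LinearEquiv.det X) := by
  let e : U ≃ₗ[F] (Fin (Module.finrank F U) → F) := (Module.finBasis F U).equivFun
  refine ⟨_, conjE e X, det_conjE e X, h.congr (e.symm.prodCongr (LinearEquiv.refl F F))
    (e.symm.prodCongr (LinearEquiv.refl F F)) ?_ ?_⟩ <;>
  · refine LinearEquiv.ext fun x => ?_
    simp

/-- Chains compose on direct sums. -/
theorem Chain.comp {g : Module.End F V} {g' : Module.End F V'} {c x c' δ δ' : Fˣ}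
    (h : Chain g c x δ) (h' : Chain g' x c' δ') : Chain (g.prodMap g') c c' (δ * δ' * x) := by
  obtain ⟨r, X, hX, h⟩ := h
  obtain ⟨r', X', hX', h'⟩ := h'
  have hh := h.prod h'
  have hd : LinearEquiv.det ((X.prodCongr X').prodCongr (smulE x)) = δ * δ' * x := by
    rw [det_prodCongr, det_prodCongr, hX, hX', det_smulE]
  rw [← hd]
  let E₁ : ((((Fin r → F) × (Fin r' → F)) × F) × F) ≃ₗ[F] (((Fin r → F) × F) × ((Fin r' → F) × F)) :=
    { toFun := fun p => ((p.1.1.1, p.2), (p.1.1.2, p.1.2))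
      invFun := fun p => (((p.1.1, p.2.1), p.2.2), p.1.2)
      map_add' := fun _ _ => rfl
      map_smul' := fun _ _ => rfl
      left_inv := fun _ => rfl
      right_inv := fun _ => rfl }
  let E₂ : ((((Fin r → F) × (Fin r' → F)) × F) × F) ≃ₗ[F] (((Fin r → F) × F) × ((Fin r' → F) × F)) :=
    { toFun := fun p => ((p.1.1.1, p.1.2), (p.1.1.2, p.2))
      invFun := fun p => (((p.1.1, p.2.1), p.1.2), p.2.2)
      map_add' := fun _ _ => rfl
      map_smul' := fun _ _ => rfl
      left_inv := fun _ => rfl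
      right_inv := fun _ => rfl }
  exact Chain.mk' _ (hh.congr E₁ E₂ rfl rfl)

/-- A piece whose two classes agree joins a chain. -/
theorem Chain.add [FiniteDimensional F W] {g : Module.End F V} {g' : Module.End F V'} {c c' δ : Fˣ}
    {A : W ≃ₗ[F] W} (h : Chain g c c' δ) (h' : Fac g' A A) :
    Chain (g.prodMap g') c c' (δ * LinearEquiv.det A) := by
  obtain ⟨r, X, hX, h⟩ := h
  have hh := h.prod h'
  rw [← hX, ← det_prodCongr X A]
  let E : (((Fin r → F) × W) × F) ≃ₗ[F] (((Fin r → F) × F) × W) :=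
    { toFun := fun p => ((p.1.1, p.2), p.1.2)
      invFun := fun p => ((p.1.1, p.2), p.1.2)
      map_add' := fun _ _ => rfl
      map_smul' := fun _ _ => rfl
      left_inv := fun _ => rfl
      right_inv := fun _ => rfl }
  exact Chain.mk' _ (hh.congr E E rfl rfl)

/-- `Fac g A A` gives a commutator if `det A = 1` and the centraliser of `A` has every determinant. -/
theorem isComm_of_fac [FiniteDimensional F V] {g : Module.End F V} {A : W ≃ₗ[F] W} (h : Fac g A A)
    (hA : LinearEquiv.det A = 1)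
    (hz : ∀ t : Fˣ, ∃ z : W ≃ₗ[F] W, Commute z A ∧ LinearEquiv.det z = t) : IsComm g := by
  obtain ⟨P, Q, rfl⟩ := h
  obtain ⟨z, hzA, hzd⟩ := hz (LinearEquiv.det (P.symm.trans Q : V ≃ₗ[F] V))⁻¹
  set x : V ≃ₗ[F] V := (P.symm.trans Q) * conjE P z with hx
  refine ⟨conjE P A, x, by rw [det_conjE, hA], ?_, ?_⟩
  · rw [hx, map_mul, det_conjE, hzd, mul_inv_cancel]
  · have h1 : x * conjE P A * x⁻¹ = conjE Q A := by
      rw [hx, mul_inv_rev, mul_assoc, mul_assoc, ← mul_assoc (conjE P A), ← mul_assoc (conjE P z),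
        ← mul_assoc (conjE P z), ← conjE_mul, hzA.eq, conjE_mul, mul_inv_cancel_right]
      refine LinearEquiv.ext fun y => ?_
      change Q (P.symm (P (A (P.symm (P (Q.symm y)))))) = Q (A (Q.symm y))
      simp
    rw [← h1]
    simp only [mul_inv_rev, inv_inv, mul_assoc]

/-- A closed chain gives a commutator. -/
theorem Chain.isComm [FiniteDimensional F V] {g : Module.End F V} {c δ : Fˣ} (h : Chain g c c δ)
    (hd : δ * c = 1) : IsComm g := by
  obtain ⟨r, X, hX, h⟩ := h
  refine isComm_of_fac h (by rw [det_prodCongr, hX, det_smulE, hd]) fun t =>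
    ⟨(LinearEquiv.refl F (Fin r → F)).prodCongr (smulE t), ?_, ?_⟩
  · refine LinearEquiv.ext fun y => ?_
    simp [mul_left_comm]
  · rw [det_prodCongr, LinearEquiv.det_refl, det_smulE, one_mul]

end CfsgLib.FGS.SLComm
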