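import Cfsg.Agent.Lib.FGS.SLComm.Root
import Cfsg.Agent.Lib.KnownSimple.GLClassBound.Basic

/-!
# Decompositions into cyclic blocks
-/

set_option autoImplicit false

namespace CfsgLib.FGS.SLComm

open LinearMap Polynomial

universe u

variable {F : Type u} [Field F]

/-- A polynomial of a block. -/
def Good (f : F[X]) : Prop := f.Monic ∧ 0 < f.natDegree ∧ f.coeff 0 ≠ 0

theorem Good.finite {f : F[X]} (h : Good f) : FiniteDimensional F (AdjoinRoot f) :=
  (AdjoinRoot.powerBasis h.1.ne_zero).finite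

theorem Good.dv_ne_zero {f : F[X]} (h : Good f) : dv f ≠ 0 :=
  mul_ne_zero (pow_ne_zero _ (neg_ne_zero.mpr one_ne_zero)) h.2.2

/-- `g` is similar to the direct sum of the blocks in `l`. -/
def Blk : List F[X] → ∀ (V : Type u) [AddCommGroup V] [Module F V], Module.End F V → Prop
  | [], V, _, _, _ => Subsingleton V
  | f :: l, V, _, _, g => ∃ (V' : Type u) (_ : AddCommGroup V') (_ : Module F V') (g' : Module.End F V')
      (e : V ≃ₗ[F] AdjoinRoot f × V'), Blk l V' g' ∧ ∀ x, e (g x) = (rootL f).prodMap g' (e x)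

theorem Blk.equiv {l : List F[X]} {V W : Type u} [AddCommGroup V] [Module F V] [AddCommGroup W] [Module F W]
    {g : Module.End F V} {g' : Module.End F W} (e : V ≃ₗ[F] W) (he : ∀ x, e (g x) = g' (e x))
    (h : Blk l V g) : Blk l W g' := by
  cases l with
  | nil =>
    simp only [Blk] at h ⊢
    exact e.symm.toEquiv.subsingleton
  | cons f l =>
    simp only [Blk] at h ⊢
    obtain ⟨V', i1, i2, g₁, e₁, h1, h2⟩ := h
    refine ⟨V', i1, i2, g₁, e.symm.trans e₁, h1, fun x => ?_⟩
    obtain ⟨y, rfl⟩ := e.surjective x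
    rw [← he]
    simp [h2]

theorem Blk.perm {l l' : List F[X]} (p : l.Perm l') : ∀ {V : Type u} [AddCommGroup V] [Module F V]
    {g : Module.End F V}, Blk l V g → Blk l' V g := by
  induction p with
  | nil => intro V _ _ g h; exact h
  | cons f _ ih =>
    intro V _ _ g h
    simp only [Blk] at h ⊢
    obtain ⟨V', i1, i2, g₁, e₁, h1, h2⟩ := h
    exact ⟨V', i1, i2, g₁, e₁, ih h1, h2⟩
  | trans _ _ ih1 ih2 => intro V _ _ g h; exact ih2 (ih1 h)
  | swap a b l =>
    intro V _ _ g h
    simp only [Blk] at h ⊢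
    obtain ⟨V₁, i1, i2, g₁, e₁, ⟨V₂, j1, j2, g₂, e₂, h2, h2'⟩, h1'⟩ := h
    refine ⟨AdjoinRoot b × V₂, inferInstance, inferInstance, (rootL b).prodMap g₂,
      (e₁.trans ((LinearEquiv.refl F _).prodCongr e₂)).trans
        (((LinearEquiv.prodAssoc F _ _ _).symm.trans ((LinearEquiv.prodComm F _ _).prodCongr
          (LinearEquiv.refl F V₂))).trans (LinearEquiv.prodAssoc F _ _ _)),
      ⟨V₂, j1, j2, g₂, LinearEquiv.refl F _, h2, fun x => rfl⟩, fun x => ?_⟩
    simp only [LinearEquiv.trans_apply, h1', LinearEquiv.prodCongr_apply, LinearMap.prodMap_apply,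
      LinearEquiv.refl_apply, h2']
    rfl

/-- Splitting along a concatenation. -/
theorem Blk.split : ∀ (l₁ l₂ : List F[X]) {V : Type u} [AddCommGroup V] [Module F V] {g : Module.End F V},
    Blk (l₁ ++ l₂) V g → ∃ (V₁ V₂ : Type u) (_ : AddCommGroup V₁) (_ : Module F V₁) (_ : AddCommGroup V₂)
      (_ : Module F V₂) (g₁ : Module.End F V₁) (g₂ : Module.End F V₂) (e : V ≃ₗ[F] V₁ × V₂),
      Blk l₁ V₁ g₁ ∧ Blk l₂ V₂ g₂ ∧ ∀ x, e (g x) = g₁.prodMap g₂ (e x)
  | [], l₂, V, _, _, g, h => by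
    refine ⟨PUnit.{u + 1}, V, inferInstance, inferInstance, inferInstance, inferInstance, 0, g,
      (LinearEquiv.uniqueProd).symm, ?_, h, fun x => ?_⟩
    · simp only [Blk]; infer_instance
    · exact Prod.ext (Subsingleton.elim _ _) rfl
  | f :: l₁, l₂, V, _, _, g, h => by
    simp only [List.cons_append, Blk] at h
    obtain ⟨V', i1, i2, g', e₁, h1, h2⟩ := h
    obtain ⟨V₁, V₂, a1, a2, b1, b2, g₁, g₂, e₂, hb1, hb2, he2⟩ := Blk.split l₁ l₂ h1
    refine ⟨AdjoinRoot f × V₁, V₂, inferInstance, inferInstance, b1, b2, (rootL f).prodMap g₁, g₂,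
      (e₁.trans ((LinearEquiv.refl F _).prodCongr e₂)).trans (LinearEquiv.prodAssoc F _ _ _).symm,
      ?_, hb2, fun x => ?_⟩
    · simp only [Blk]
      exact ⟨V₁, a1, a2, g₁, LinearEquiv.refl F _, hb1, fun x => rfl⟩
    · simp only [LinearEquiv.trans_apply, h2, LinearEquiv.prodCongr_apply, LinearMap.prodMap_apply,
        LinearEquiv.refl_apply, he2]
      rfl

theorem Blk.finite : ∀ (l : List F[X]) {V : Type u} [AddCommGroup V] [Module F V] {g : Module.End F V},
    (∀ f ∈ l, Good f) → Blk l V g → FiniteDimensional F V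
  | [], V, _, _, g, _, h => by
    simp only [Blk] at h
    haveI := h
    exact Module.Finite.of_finite
  | f :: l, V, _, _, g, hg, h => by
    simp only [Blk] at h
    obtain ⟨V', i1, i2, g', e, h1, _⟩ := h
    haveI := Blk.finite l (fun x hx => hg x (List.mem_cons_of_mem _ hx)) h1
    haveI := (hg f (List.mem_cons_self ..)).finite
    exact Module.Finite.equiv e.symm

theorem Blk.det : ∀ (l : List F[X]) {V : Type u} [AddCommGroup V] [Module F V] {g : Module.End F V},
    (∀ f ∈ l, Good f) → Blk l V g → LinearMap.det g = (l.map dv).prod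
  | [], V, _, _, g, _, h => by
    simp only [Blk] at h
    haveI := h
    rw [List.map_nil, List.prod_nil, show g = LinearMap.id from LinearMap.ext fun _ => Subsingleton.elim _ _,
      LinearMap.det_id]
  | f :: l, V, _, _, g, hg, h => by
    simp only [Blk] at h
    obtain ⟨V', i1, i2, g', e, h1, h2⟩ := h
    haveI := Blk.finite l (fun x hx => hg x (List.mem_cons_of_mem _ hx)) h1
    haveI := (hg f (List.mem_cons_self ..)).finite
    have hfm := (hg f (List.mem_cons_self ..)).1
    have hc : g = (e.symm : _ →ₗ[F] V).comp (((rootL f).prodMap g').comp (e.symm.symm : V →ₗ[F] _)) := by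
      refine LinearMap.ext fun x => e.injective ?_
      simp [h2]
    rw [hc, LinearMap.det_conj, LinearMap.det_prodMap, det_rootL hfm,
      Blk.det l (fun x hx => hg x (List.mem_cons_of_mem _ hx)) h1, List.map_cons, List.prod_cons]

theorem Blk.finrank : ∀ (l : List F[X]) {V : Type u} [AddCommGroup V] [Module F V] {g : Module.End F V},
    (∀ f ∈ l, Good f) → Blk l V g → Module.finrank F V = (l.map natDegree).sum
  | [], V, _, _, g, _, h => by
    simp only [Blk] at h
    haveI := h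
    rw [List.map_nil, List.sum_nil]
    exact Module.finrank_zero_of_subsingleton
  | f :: l, V, _, _, g, hg, h => by
    simp only [Blk] at h
    obtain ⟨V', i1, i2, g', e, h1, h2⟩ := h
    haveI := Blk.finite l (fun x hx => hg x (List.mem_cons_of_mem _ hx)) h1
    haveI := (hg f (List.mem_cons_self ..)).finite
    rw [e.finrank_eq, Module.finrank_prod, Blk.finrank l (fun x hx => hg x (List.mem_cons_of_mem _ hx)) h1,
      (AdjoinRoot.powerBasis (hg f (List.mem_cons_self ..)).1.ne_zero).finrank, AdjoinRoot.powerBasis_dim,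
      List.map_cons, List.sum_cons]

theorem blk_pi : ∀ (r : ℕ) (f : Fin r → F[X]),
    Blk (List.ofFn f) (∀ i, AdjoinRoot (f i)) (LinearMap.pi fun i => (rootL (f i)).comp (LinearMap.proj i))
  | 0, f => by simp only [List.ofFn_zero, Blk]; infer_instance
  | r + 1, f => by
    simp only [List.ofFn_succ, Blk]
    refine ⟨∀ i : Fin r, AdjoinRoot (f i.succ), inferInstance, inferInstance,
      LinearMap.pi fun i => (rootL (f i.succ)).comp (LinearMap.proj i),
      { toFun := fun v => (v 0, fun i => v i.succ)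
        invFun := fun p => Fin.cons p.1 p.2
        map_add' := fun v w => rfl
        map_smul' := fun c v => rfl
        left_inv := fun v => Fin.cons_self_tail v
        right_inv := fun p => by simp },
      blk_pi r fun i => f i.succ, fun x => rfl⟩

/-- Every invertible matrix decomposes into prime power blocks. -/
theorem exists_blk [Fintype F] {n : ℕ} (A : GL (Fin n) F) :
    ∃ l : List F[X], (∀ f ∈ l, Good f ∧ ∃ p k, Irreducible p ∧ p.Monic ∧ f = p ^ k) ∧
      Blk l (Fin n → F) (Matrix.toLin' (A : Matrix (Fin n) (Fin n) F)) := by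
  classical
  obtain ⟨ι, _, pe, hpe, _, ⟨Φ⟩⟩ := CfsgLib.GLClassBound.exists_primary A
  let ψ := Fintype.equivFin ι
  let f : Fin (Fintype.card ι) → F[X] := fun i => (pe (ψ.symm i)).1 ^ (pe (ψ.symm i)).2
  refine ⟨List.ofFn f, ?_, ?_⟩
  · intro x hx
    obtain ⟨i, rfl⟩ := List.mem_ofFn.mp hx
    obtain ⟨hm, hirr, hc, hpos⟩ := hpe (ψ.symm i)
    refine ⟨⟨hm.pow _, ?_, ?_⟩, _, _, hirr, hm, rfl⟩
    · rw [natDegree_pow]
      exact Nat.mul_pos hpos hirr.natDegree_pos
    · rw [coeff_zero_eq_eval_zero, eval_pow, ← coeff_zero_eq_eval_zero]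
      exact pow_ne_zero _ hc
  · let R : (∀ i, F[X] ⧸ Ideal.span {f i}) ≃ₗ[F[X]] CfsgLib.GLClassBound.PMdl pe :=
      LinearEquiv.piCongrLeft F[X] (fun i => F[X] ⧸ Ideal.span {(pe i).1 ^ (pe i).2}) ψ.symm
    let T : (Fin n → F) ≃ₗ[F] (∀ i, F[X] ⧸ Ideal.span {f i}) :=
      ((Module.AEval'.of (Matrix.toLin' (A : Matrix (Fin n) (Fin n) F))).trans (Φ.restrictScalars F)).trans
        (R.symm.restrictScalars F)
    refine (blk_pi _ f).equiv T.symm fun x => T.injective ?_
    rw [LinearEquiv.apply_symm_apply]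
    obtain ⟨v, rfl⟩ := T.surjective x
    rw [LinearEquiv.symm_apply_apply]
    have hX : T (Matrix.toLin' (A : Matrix (Fin n) (Fin n) F) v) = (X : F[X]) • T v := by
      change R.symm (Φ (Module.AEval'.of _ (Matrix.toLin' (A : Matrix (Fin n) (Fin n) F) v))) =
        (X : F[X]) • R.symm (Φ (Module.AEval'.of _ v))
      rw [← Module.AEval'.X_smul_of, map_smul, map_smul]
    rw [hX]
    funext i
    rw [Pi.smul_apply]
    obtain ⟨q, hq⟩ := Ideal.Quotient.mk_surjective (T v i)
    change AdjoinRoot.root (f i) * (show AdjoinRoot (f i) from T v i) = (X : F[X]) • T v i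
    rw [← hq]
    rfl

/-- The root of a product. -/
theorem exists_merge {a b : F[X]} (ha : Good a) (hb : Good b) (hab : IsCoprime a b) :
    ∃ e : AdjoinRoot (a * b) ≃ₗ[F] AdjoinRoot a × AdjoinRoot b,
      ∀ x, e (rootL (a * b) x) = (rootL a).prodMap (rootL b) (e x) := by
  haveI := ha.finite
  haveI := hb.finite
  haveI : FiniteDimensional F (AdjoinRoot (a * b)) :=
    (AdjoinRoot.powerBasis (mul_ne_zero ha.1.ne_zero hb.1.ne_zero)).finite
  have h0 : (a * b).eval₂ (Algebra.ofId F (AdjoinRoot a × AdjoinRoot b)).toRingHom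
      (AdjoinRoot.root a, AdjoinRoot.root b) = 0 := by
    change aeval (AdjoinRoot.root a, AdjoinRoot.root b) (a * b) = 0
    rw [aeval_prod_apply, AdjoinRoot.aeval_eq, AdjoinRoot.aeval_eq, AdjoinRoot.mk_eq_zero.mpr (dvd_mul_right a b),
      AdjoinRoot.mk_eq_zero.mpr (dvd_mul_left b a)]
    rfl
  let φ := AdjoinRoot.liftAlgHom (a * b) (Algebra.ofId F (AdjoinRoot a × AdjoinRoot b)) _ h0
  have hφ : ∀ q, φ (AdjoinRoot.mk (a * b) q) = (AdjoinRoot.mk a q, AdjoinRoot.mk b q) := by
    intro q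
    rw [← AdjoinRoot.aeval_eq, ← aeval_algHom_apply, ← AdjoinRoot.aeval_eq, ← AdjoinRoot.aeval_eq]
    have : φ (AdjoinRoot.root (a * b)) = (AdjoinRoot.root a, AdjoinRoot.root b) := AdjoinRoot.lift_root h0
    rw [this, aeval_prod_apply]
  have hinj : Function.Injective φ := by
    refine (injective_iff_map_eq_zero φ).mpr fun x hx => ?_
    obtain ⟨q, rfl⟩ := AdjoinRoot.mk_surjective x
    rw [hφ, Prod.mk_eq_zero, AdjoinRoot.mk_eq_zero, AdjoinRoot.mk_eq_zero] at hx
    exact AdjoinRoot.mk_eq_zero.mpr (hab.mul_dvd hx.1 hx.2)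
  have hd : Module.finrank F (AdjoinRoot (a * b)) = Module.finrank F (AdjoinRoot a × AdjoinRoot b) := by
    rw [Module.finrank_prod, (AdjoinRoot.powerBasis (mul_ne_zero ha.1.ne_zero hb.1.ne_zero)).finrank,
      (AdjoinRoot.powerBasis ha.1.ne_zero).finrank, (AdjoinRoot.powerBasis hb.1.ne_zero).finrank]
    simp [natDegree_mul ha.1.ne_zero hb.1.ne_zero]
  refine ⟨LinearEquiv.ofBijective φ.toLinearMap
    ⟨hinj, (LinearMap.injective_iff_surjective_of_finrank_eq_finrank hd).mp hinj⟩, fun x => ?_⟩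
  change φ (AdjoinRoot.root (a * b) * x) = _
  rw [map_mul, ← AdjoinRoot.mk_X, hφ]
  rfl

theorem Good.mul {a b : F[X]} (ha : Good a) (hb : Good b) : Good (a * b) :=
  ⟨ha.1.mul hb.1, by rw [natDegree_mul ha.1.ne_zero hb.1.ne_zero]; have := ha.2.1; omega,
    by rw [mul_coeff_zero]; exact mul_ne_zero ha.2.2 hb.2.2⟩

/-- Two coprime blocks merge. -/
theorem Blk.merge {a b : F[X]} {l : List F[X]} (ha : Good a) (hb : Good b) (hab : IsCoprime a b)
    {V : Type u} [AddCommGroup V] [Module F V] {g : Module.End F V} (h : Blk (a :: b :: l) V g) :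
    Blk ((a * b) :: l) V g := by
  obtain ⟨e, he⟩ := exists_merge ha hb hab
  simp only [Blk] at h ⊢
  obtain ⟨V₁, i1, i2, g₁, e₁, ⟨V₂, j1, j2, g₂, e₂, h2, h2'⟩, h1'⟩ := h
  refine ⟨V₂, j1, j2, g₂, (e₁.trans ((LinearEquiv.refl F _).prodCongr e₂)).trans
    ((LinearEquiv.prodAssoc F _ _ _).symm.trans (e.symm.prodCongr (LinearEquiv.refl F V₂))), h2, fun x => ?_⟩
  simp only [LinearEquiv.trans_apply, h1', LinearEquiv.prodCongr_apply, LinearMap.prodMap_apply,
    LinearEquiv.refl_apply, h2']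
  refine Prod.ext ?_ rfl
  apply e.injective
  rw [LinearEquiv.apply_symm_apply, he, LinearEquiv.apply_symm_apply]
  rfl

end CfsgLib.FGS.SLComm
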