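import Cfsg.Agent.Lib.FGS.SLComm.Pieces

/-!
# Two eigenvalues, and the dispatch for `q ≥ 4`
-/

set_option autoImplicit false

namespace CfsgLib.FGS.SLComm

open LinearMap Polynomial

universe u

variable {F : Type u} [Field F] [Fintype F]

/-- The linear block of a unit. -/
noncomputable abbrev lin (t : Fˣ) : F[X] := X - C (t : F)

omit [Fintype F] in
theorem coprime_lin {a b : Fˣ} (h : a ≠ b) : IsCoprime (lin a) (lin b) :=
  isCoprime_X_sub_C_of_isUnit_sub (sub_ne_zero.mpr fun e => h (Units.ext e)).isUnit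

omit [Fintype F] in
theorem good_pair (a b : Fˣ) : Good (lin a * lin b) ∧ (lin a * lin b).natDegree = 2 ∧
    dU (lin a * lin b) = a * b :=
  ⟨(good_lin a).mul (good_lin b),
    by rw [lin, lin, natDegree_mul (good_lin a).1.ne_zero (good_lin b).1.ne_zero, natDegree_X_sub_C,
      natDegree_X_sub_C],
    by rw [lin, lin, dU_mul (good_lin a) (good_lin b), dU_lin, dU_lin]⟩

theorem commL_lin_replicate (a : Fˣ) {r : ℕ} (h : a ^ r = 1) : CommL (List.replicate r (lin a)) :=
  commL_scalar a h

omit [Fintype F] in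
theorem pre_replicate : ∀ (k : ℕ) (a : Fˣ), pre (a ^ k) (List.replicate k a) = a ^ (k + 1).choose 2
  | 0, a => by simp [pre]
  | k + 1, a => by
    rw [List.replicate_succ, pre, show a ^ (k + 1) / a = a ^ k by rw [pow_succ, mul_div_cancel_right],
      pre_replicate k a, ← pow_add, Nat.choose_succ_succ' (k + 1) 1, Nat.choose_one_right]

/-- One eigenvalue of multiplicity one. -/
theorem commL_diag_one (hq : 4 ≤ Fintype.card F) {l m : Fˣ} (hne : l ≠ m) {a : ℕ} (ha : 1 ≤ a)
    (hdet : l ^ a * m = 1) (hla : l ^ a ≠ 1) : CommL (List.replicate a (lin l) ++ [lin m]) := by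
  obtain ⟨k, rfl⟩ : ∃ k, a = k + 1 := ⟨a - 1, by omega⟩
  obtain ⟨hgood, hdeg, hd⟩ := good_pair l m
  have hm : l * m = (l ^ k)⁻¹ := by
    rw [eq_inv_iff_mul_eq_one, mul_right_comm, ← pow_succ', hdet]
  rcases Nat.eq_zero_or_pos k with rfl | hk
  · have h := CommL.merge (good_lin l) (good_lin m) (coprime_lin hne)
      (commL_two hq hgood hdeg (hd.trans (hm.trans (by simp))))
    simpa [lin] using h
  -- the chain starts at `s`
  set M : Fˣ := l ^ (k + 1).choose 2 with hM
  have key : ∀ s : Fˣ, s ^ (k + 2) * M ≠ 1 → s ^ (k + 2) * l ^ k * M ≠ 1 →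
      CommL (List.replicate (k + 1) (lin l) ++ [lin m]) := by
    intro s h1 h2
    set p := pre (s * l ^ k) (List.replicate k l) with hp
    have hpval : p = s ^ k * M := by
      rw [hp, pre_smul, List.length_replicate, pre_replicate]
    have hdiv : s / dU (lin l * lin m) = s * l ^ k := by rw [hd, hm, div_inv_eq_mul]
    have hne' : ((s * p)⁻¹ : Fˣ) ≠ s := fun h => h1 (by
      rw [inv_eq_iff_mul_eq_one, hpval] at h
      rw [← h, pow_succ, pow_succ]
      simp only [mul_assoc, mul_comm, mul_left_comm])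
    have hne'' : ((s * p)⁻¹ : Fˣ) ≠ s * l ^ k := fun h => h2 (by
      rw [inv_eq_iff_mul_eq_one, hpval] at h
      rw [← h, pow_succ, pow_succ]
      simp only [mul_assoc, mul_comm, mul_left_comm])
    have hstep := step_two hgood hdeg (c := s) (e := (s * p)⁻¹) hne' (by rwa [hdiv])
    rw [hdiv] at hstep
    have hrest := chainL_lins (List.replicate k l) (by simpa using hk.ne') (s * l ^ k)
    rw [List.map_replicate, List.prod_replicate, mul_div_cancel_right] at hrest
    have h := hstep.append hrest
    rw [mul_assoc, ← hp, inv_mul_cancel] at h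
    refine CommL.perm ((CommL.merge (good_lin l) (good_lin m) (coprime_lin hne) h.comm)) ?_
    rw [List.replicate_succ, List.cons_append]
    exact (List.perm_append_singleton _ _).cons _
  by_contra hcon
  set G : Fˣ →* Fˣ := powMonoidHom (k + 2) with hG
  have hbad : ∀ s : Fˣ, s ^ (k + 2) = M⁻¹ ∨ s ^ (k + 2) = M⁻¹ * (l ^ k)⁻¹ := by
    intro s
    by_cases h1 : s ^ (k + 2) * M = 1
    · exact Or.inl (eq_inv_of_mul_eq_one_left h1)
    · refine Or.inr (mul_inv_rev (l ^ k) M ▸ eq_inv_of_mul_eq_one_left ?_)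
      by_contra h2
      exact hcon (key s h1 (by rwa [mul_assoc]))
  have hx : l ^ (k + 2) ≠ 1 := by
    intro h
    rw [pow_succ, ← hdet] at h
    exact hne (mul_left_cancel h)
  set x := l ^ (k + 2) with hxdef
  -- the powers form `{1, x}`
  have h12 : ∀ s : Fˣ, s ^ (k + 2) = 1 ∨ s ^ (k + 2) = x := by
    intro s
    rcases hbad 1 with e1 | e1 <;> rcases hbad l with e2 | e2 <;> rw [one_pow] at e1 <;> rw [← hxdef] at e2 <;>
      rcases hbad s with e3 | e3
    all_goals first
      | exact absurd (e2.trans e1.symm) hx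
      | exact Or.inl (e3.trans e1.symm)
      | exact Or.inr (e3.trans e2.symm)
  have hxx : x * x = 1 := by
    rcases h12 (l * l) with h | h
    · rwa [mul_pow] at h
    · rw [mul_pow, ← hxdef, mul_eq_left] at h; exact absurd h hx
  have hν : (l ^ k)⁻¹ = x := by
    rcases hbad 1 with e1 | e1 <;> rcases hbad l with e2 | e2 <;> rw [one_pow] at e1 <;> rw [← hxdef] at e2
    · exact absurd (e2.trans e1.symm) hx
    · rw [e2, ← e1, one_mul]
    · have h : (l ^ k)⁻¹ = x⁻¹ := by rw [e2, inv_inv]; exact (inv_mul_eq_one.mp e1.symm).symm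
      rw [h, inv_eq_iff_mul_eq_one, hxx]
    · exact absurd (e2.trans e1.symm) hx
  have h2k : l ^ (2 * k + 2) = 1 := by
    have := congrArg (· * l ^ k) hν
    simp only [inv_mul_cancel] at this
    rw [hxdef, ← pow_add] at this
    rw [show 2 * k + 2 = k + 2 + k by omega, ← this]
  have hsq : l ^ 2 = 1 := by
    have h : l ^ (2 * k + 4) = 1 := by rw [show 2 * k + 4 = k + 2 + (k + 2) by omega, pow_add, ← hxdef, hxx]
    rwa [show 2 * k + 4 = 2 * k + 2 + 2 by omega, pow_add, h2k, one_mul] at h
  have hl1 : l ≠ 1 := fun h => hla (by rw [h, one_pow])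
  rcases Nat.even_or_odd k with ⟨r, hr⟩ | ⟨r, hr⟩
  · apply hx
    rw [hxdef, show k + 2 = 2 * (r + 1) by omega, pow_mul, hsq, one_pow]
  · apply hla
    rw [show k + 1 = 2 * (r + 1) by omega, pow_mul, hsq, one_pow]

/-- Eigenvalues `l ^ a`, `m ^ b` when every unit is an `n`-th power. -/
theorem commL_diag_coprime {l m : Fˣ} {a b : ℕ} (ha : 1 ≤ a) (hdet : l ^ a * m ^ b = 1)
    (hco : Nat.Coprime (Nat.card Fˣ) (a + b)) :
    CommL (List.replicate a (lin l) ++ List.replicate b (lin m)) := by
  set ts := List.replicate a l ++ List.replicate b m with hts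
  have hne : ts ≠ [] := by
    intro h
    have := congrArg List.length h
    simp [hts] at this
    omega
  obtain ⟨s, hs⟩ := (powCoprime hco).surjective (pre 1 ts)⁻¹
  have hs' : s ^ (a + b) = (pre 1 ts)⁻¹ := hs
  have h := chainL_lins ts hne s
  rw [← mul_one s, pre_smul, show ts.length = a + b by simp [hts], hs', inv_mul_cancel, hts,
    List.prod_append, List.prod_replicate, List.prod_replicate, hdet, div_one, List.map_append,
    List.map_replicate, List.map_replicate] at h
  exact h.comm

/-- Two merged pairs. -/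
theorem commL_diag_two (hq : 7 ≤ Fintype.card F) {l m : Fˣ} (hne : l ≠ m) {a b : ℕ} (ha : 2 ≤ a) (hb : 2 ≤ b)
    (hdet : l ^ a * m ^ b = 1) : CommL (List.replicate a (lin l) ++ List.replicate b (lin m)) := by
  classical
  obtain ⟨a, rfl⟩ : ∃ k, a = k + 2 := ⟨a - 2, by omega⟩
  obtain ⟨b, rfl⟩ : ∃ k, b = k + 2 := ⟨b - 2, by omega⟩
  obtain ⟨hgood, hdeg, hd⟩ := good_pair l m
  set d := l * m with hdd
  set rest := List.replicate a (lin l) ++ List.replicate b (lin m) with hrest
  have hg : ∀ f ∈ rest, Good f := by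
    intro f hf
    rcases List.mem_append.mp hf with h | h <;> rw [List.eq_of_mem_replicate h]
    exacts [good_lin l, good_lin m]
  have hprod : (1 : Fˣ) / d / d / (rest.map dU).prod = 1 := by
    rw [hrest, List.map_append, List.map_replicate, List.map_replicate, List.prod_append, List.prod_replicate,
      List.prod_replicate, lin, lin, dU_lin, dU_lin, div_div, div_div, one_div, inv_eq_one, hdd, ← hdet,
      pow_succ, pow_succ, pow_succ, pow_succ]
    simp only [mul_assoc, mul_comm, mul_left_comm]
  obtain ⟨p, hp⟩ : ∃ p, ChainL ([lin l * lin m, lin l * lin m] ++ rest) 1 1 p ∧ p = 1 := by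
    obtain ⟨p, hp⟩ : ∃ p, ∀ q, ChainL [lin l * lin m, lin l * lin m] 1 (1 / d / d) q →
        ChainL ([lin l * lin m, lin l * lin m] ++ rest) 1 1 (q * p) := by
      rcases eq_or_ne rest [] with h | h
      · refine ⟨1, fun q hq' => ?_⟩
        rw [h] at hprod ⊢
        rw [List.map_nil, List.prod_nil, div_one] at hprod
        rw [hprod] at hq'
        simpa using hq'
      · obtain ⟨p, hp⟩ := chainL_any (by omega) rest h hg (1 / d / d)
        rw [hprod] at hp
        exact ⟨p, fun q hq' => hq'.append hp⟩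
    set K := (1 / d) * p with hK
    obtain ⟨e, he⟩ := exists_avoid ({1, 1 / d, (1 / d * K)⁻¹, (1 / d / d * K)⁻¹} : Finset Fˣ) (by
      have := Finset.card_le_four (a := (1 : Fˣ)) (b := 1 / d) (c := (1 / d * K)⁻¹) (d := (1 / d / d * K)⁻¹)
      omega)
    simp only [Finset.mem_insert, Finset.mem_singleton, not_or] at he
    obtain ⟨he1, he2, he3, he4⟩ := he
    have s1 := step_two hgood hdeg (c := 1) (e := e) he1 (by rwa [hd])
    have s2 := step_two hgood hdeg (c := 1 / d) (e := (e * K)⁻¹)
      (fun h => he3 (by rw [← h]; simp [mul_inv_rev]))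
      (fun h => he4 (by rw [hd] at h; rw [← h]; simp [mul_inv_rev]))
    rw [hd] at s1 s2
    refine ⟨_, hp _ (s1.append s2), ?_⟩
    rw [mul_one, hK, mul_inv_rev, mul_comm ((1 / d * p)⁻¹) e⁻¹, mul_assoc e⁻¹, ← mul_assoc e, mul_inv_cancel,
      one_mul, mul_assoc, inv_mul_cancel]
  have h := (hp.2 ▸ hp.1).comm
  have h1 : CommL (lin l * lin m :: lin l * lin m :: rest) := h
  have h2 := CommL.merge (good_lin l) (good_lin m) (coprime_lin hne) h1
  have h3 : CommL (lin l * lin m :: lin l :: lin m :: rest) := h2.perm (by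
    refine (List.Perm.swap _ _ _).trans (List.Perm.cons _ (List.Perm.swap _ _ _)))
  have h4 := CommL.merge (good_lin l) (good_lin m) (coprime_lin hne) h3
  refine h4.perm ?_
  rw [hrest, List.replicate_succ, List.replicate_succ, List.replicate_succ, List.replicate_succ]
  simp only [List.cons_append]
  refine List.perm_iff_count.mpr fun x => ?_
  simp only [lin, List.count_cons, List.count_append]
  ring

theorem zmod_four_diag : ∀ x y a b : ZMod 4, x ≠ y → a * x + b * y = 0 → (a + b) * 2 = 0 → a * x ≠ 0 →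
    x + y = 0 ∨ (x + x + y = 0 ∧ (a - 2) * x = 0) ∨ (y + y + x = 0 ∧ (b - 2) * y = 0) := by
  decide

/-- Three linear blocks `t, t, t⁻²`. -/
theorem commL_triple {l m : Fˣ} (h : l * l * m = 1) : CommL [lin l, lin l, lin m] := by
  have h' := chainL_lins [l, l, m] (by simp) l
  rw [show [l, l, m].prod = 1 by simp [← mul_assoc, h], div_one,
    show pre l [l, l, m] = 1 by simp [pre]] at h'
  exact h'.comm

/-- Two eigenvalues. -/
theorem commL_diag (hq : 4 ≤ Fintype.card F) {l m : Fˣ} (hne : l ≠ m) {a b : ℕ} (ha : 1 ≤ a) (hb : 1 ≤ b)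
    (hdet : l ^ a * m ^ b = 1) : CommL (List.replicate a (lin l) ++ List.replicate b (lin m)) := by
  classical
  by_cases hla : l ^ a = 1
  · rw [hla, one_mul] at hdet
    exact (commL_lin_replicate l hla).append (commL_lin_replicate m hdet)
  have hmb : m ^ b ≠ 1 := fun h => hla (by rwa [h, mul_one] at hdet)
  rcases Nat.eq_or_lt_of_le hb with hb1 | hb2
  · subst hb1
    simpa using commL_diag_one hq hne ha (by simpa using hdet) hla
  rcases Nat.eq_or_lt_of_le ha with ha1 | ha2
  · subst ha1
    refine (commL_diag_one hq hne.symm hb (by rw [mul_comm]; simpa using hdet) hmb).perm ?_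
    simpa using (List.perm_append_singleton (lin l) (List.replicate b (lin m))).symm
  by_cases hq7 : 7 ≤ Fintype.card F
  · exact commL_diag_two hq7 hne (by omega) (by omega) hdet
  by_cases hco : Nat.Coprime (Nat.card Fˣ) (a + b)
  · exact commL_diag_coprime ha hdet hco
  have hunits : Nat.card Fˣ = Fintype.card F - 1 := by rw [Nat.card_units, Nat.card_eq_fintype_card]
  have hord : ∀ x : Fˣ, x ^ Nat.card Fˣ = 1 := fun x => pow_card_eq_one'
  obtain ⟨q, hqc⟩ : ∃ q, Fintype.card F = q + 1 := ⟨Fintype.card F - 1, by omega⟩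
  rcases (show q = 3 ∨ q = 4 ∨ q = 5 by omega) with rfl | rfl | rfl
  · -- four elements
    exfalso
    rw [hunits, hqc] at hord hco
    have hab : 3 ∣ a + b := by
      by_contra h
      exact hco (Nat.Prime.coprime_iff_not_dvd Nat.prime_three |>.mpr h)
    obtain ⟨r, hr⟩ := hab
    have h1 : m ^ (a + b) = 1 := by rw [hr, pow_mul, hord, one_pow]
    have h2 : (l * m⁻¹) ^ a = 1 := by
      rw [pow_add] at h1
      rw [mul_pow, inv_pow, mul_inv_eq_one]
      exact mul_right_cancel (b := m ^ b) (hdet.trans h1.symm)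
    have h3 : 3 ∣ a := by
      rcases (Nat.dvd_prime Nat.prime_three).mp (orderOf_dvd_of_pow_eq_one (hord (l * m⁻¹))) with h | h
      · exact absurd (mul_inv_eq_one.mp (orderOf_eq_one_iff.mp h)) hne
      · exact h ▸ orderOf_dvd_of_pow_eq_one h2
    obtain ⟨r', hr'⟩ := h3
    exact hla (by rw [hr', pow_mul, hord, one_pow])
  · -- five elements
    have hab : 2 ∣ a + b := by
      by_contra h
      refine hco ?_
      rw [hunits, hqc, show 4 + 1 - 1 = 2 ^ 2 from rfl]
      exact Nat.Coprime.pow_left 2 (Nat.prime_two.coprime_iff_not_dvd.mpr h)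
    have h4 : Nat.card Fˣ = 4 := by rw [hunits, hqc]
    let φ : Multiplicative (ZMod 4) ≃* Fˣ :=
      ((zmodCyclicMulEquiv (inferInstance : IsCyclic (Multiplicative (ZMod 4)))).symm.trans
        (mulEquivOfCyclicCardEq (by rw [h4]; simp)))
    set x := Multiplicative.toAdd (φ.symm l) with hxdef
    set y := Multiplicative.toAdd (φ.symm m) with hydef
    have hpow : ∀ (z : Fˣ) (k : ℕ), z ^ k = 1 ↔ (k : ZMod 4) * Multiplicative.toAdd (φ.symm z) = 0 := by
      intro z k
      rw [← φ.symm.map_eq_one_iff, map_pow, ← toAdd_eq_zero, toAdd_pow, nsmul_eq_mul]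
    have hmul : ∀ u v w : Fˣ, u * v * w = 1 ↔ Multiplicative.toAdd (φ.symm u) +
        Multiplicative.toAdd (φ.symm v) + Multiplicative.toAdd (φ.symm w) = 0 := by
      intro u v w
      rw [← φ.symm.map_eq_one_iff, map_mul, map_mul, ← toAdd_eq_zero, toAdd_mul, toAdd_mul]
    have e1 : x ≠ y := fun h => hne (φ.symm.injective (Multiplicative.toAdd.injective h))
    have e2 : (a : ZMod 4) * x + (b : ZMod 4) * y = 0 := by
      have h := (φ.symm.map_eq_one_iff).mpr hdet
      rw [← toAdd_eq_zero, map_mul, map_pow, map_pow, toAdd_mul, toAdd_pow, toAdd_pow, nsmul_eq_mul,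
        nsmul_eq_mul] at h
      exact h
    have e3 : ((a : ZMod 4) + b) * 2 = 0 := by
      obtain ⟨r, hr⟩ := hab
      rw [← Nat.cast_add, hr, Nat.cast_mul, Nat.cast_ofNat, mul_right_comm,
        show (2 : ZMod 4) * 2 = 0 from rfl, zero_mul]
    have e4 : (a : ZMod 4) * x ≠ 0 := fun h => hla ((hpow l a).mpr h)
    rcases zmod_four_diag x y a b e1 e2 e3 e4 with h | ⟨h, h'⟩ | ⟨h, h'⟩
    · -- inverse pairs
      have hlm : l * m = 1 := by
        have := (hmul l m 1).mpr (by rw [map_one, toAdd_one, add_zero]; exact h)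
        rwa [mul_one] at this
      have hp : CommL [lin l, lin m] := by
        obtain ⟨hgood, hdeg, hd⟩ := good_pair l m
        exact CommL.merge (good_lin l) (good_lin m) (coprime_lin hne) (commL_two hq hgood hdeg (hd.trans hlm))
      have hm' : m = l⁻¹ := eq_inv_of_mul_eq_one_right hlm
      rcases Nat.le_total b a with hle | hle
      · obtain ⟨r, rfl⟩ : ∃ r, a = b + r := ⟨a - b, by omega⟩
        have hr : l ^ r = 1 := by
          rw [hm', inv_pow, pow_add, mul_inv_cancel_comm] at hdet
          exact hdet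
        refine ((hp.replicate b).append (commL_lin_replicate l hr)).perm ?_
        refine List.perm_iff_count.mpr fun z => ?_
        simp [List.count_append, List.count_flatten, List.count_replicate, List.count_cons]
        split_ifs <;> ring
      · obtain ⟨r, rfl⟩ : ∃ r, b = a + r := ⟨b - a, by omega⟩
        have hr : m ^ r = 1 := by
          rw [show l = m⁻¹ from eq_inv_of_mul_eq_one_left hlm, inv_pow, pow_add, ← mul_assoc, inv_mul_cancel,
            one_mul] at hdet
          exact hdet
        refine ((hp.replicate a).append (commL_lin_replicate m hr)).perm ?_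
        refine List.perm_iff_count.mpr fun z => ?_
        simp [List.count_append, List.count_flatten, List.count_replicate, List.count_cons]
        split_ifs <;> ring
    · -- `l, l, m`
      have h3 : l * l * m = 1 := (hmul l l m).mpr h
      obtain ⟨a, rfl⟩ : ∃ k, a = k + 2 := ⟨a - 2, by omega⟩
      obtain ⟨b, rfl⟩ : ∃ k, b = k + 1 := ⟨b - 1, by omega⟩
      have hl : l ^ a = 1 := (hpow l a).mpr (by simpa using h')
      have hm : m ^ b = 1 := by
        have : l ^ (a + 2) * m ^ (b + 1) = l ^ a * m ^ b * (l * l * m) := by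
          rw [pow_succ, pow_succ, pow_succ]; simp only [mul_assoc, mul_comm, mul_left_comm]
        rwa [this, h3, hl, one_mul, mul_one] at hdet
      refine (((commL_triple h3).append (commL_lin_replicate l hl)).append (commL_lin_replicate m hm)).perm ?_
      refine List.perm_iff_count.mpr fun z => ?_
      simp [List.count_append, List.count_replicate, List.count_cons]
      split_ifs <;> ring
    · -- `m, m, l`
      have h3 : m * m * l = 1 := (hmul m m l).mpr h
      obtain ⟨a, rfl⟩ : ∃ k, a = k + 1 := ⟨a - 1, by omega⟩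
      obtain ⟨b, rfl⟩ : ∃ k, b = k + 2 := ⟨b - 2, by omega⟩
      have hm : m ^ b = 1 := (hpow m b).mpr (by simpa using h')
      have hl : l ^ a = 1 := by
        have : l ^ (a + 1) * m ^ (b + 2) = l ^ a * m ^ b * (m * m * l) := by
          rw [pow_succ, pow_succ, pow_succ]; simp only [mul_assoc, mul_comm, mul_left_comm]
        rwa [this, h3, hm, mul_one, mul_one] at hdet
      refine (((commL_triple h3).append (commL_lin_replicate l hl)).append (commL_lin_replicate m hm)).perm ?_
      refine List.perm_iff_count.mpr fun z => ?_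
      simp [List.count_append, List.count_replicate, List.count_cons]
      split_ifs <;> ring
  · -- six elements: impossible
    exfalso
    obtain ⟨p, hp, n, hpp, hn, he⟩ : ∃ p, p.Prime ∧ ∃ n : ℕ, p ∣ 6 ∧ 0 < n ∧ 6 = p ^ n := by
      obtain ⟨n, hp, he⟩ := FiniteField.card F (ringChar F)
      rw [hqc] at he
      exact ⟨_, hp, n, (dvd_pow_self _ n.ne_zero).trans he.symm.dvd, n.pos, he⟩
    have h2 : 2 ∣ p ^ n := he ▸ (by norm_num)
    have h3 : 3 ∣ p ^ n := he ▸ (by norm_num)
    have e2 := (Nat.prime_dvd_prime_iff_eq Nat.prime_two hp).mp (Nat.prime_two.dvd_of_dvd_pow h2)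
    have e3 := (Nat.prime_dvd_prime_iff_eq Nat.prime_three hp).mp (Nat.prime_three.dvd_of_dvd_pow h3)
    omega

end CfsgLib.FGS.SLComm
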