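import Cfsg.Agent.Lib.FGS.SLComm.Diag

/-!
# The classification of block lists for `q ≥ 4`
-/

set_option autoImplicit false

namespace CfsgLib.FGS.SLComm

open LinearMap Polynomial

universe u

variable {F : Type u} [Field F]

/-- A good prime power. -/
def PP (f : F[X]) : Prop := Good f ∧ ∃ p k, Irreducible p ∧ p.Monic ∧ f = p ^ k

/-- Prime powers are coprime or powers of the same prime. -/
theorem PP.coprime_or_same {a b : F[X]} (ha : PP a) (hb : PP b) :
    IsCoprime a b ∨ ∃ p i j, Irreducible p ∧ p.Monic ∧ a = p ^ i ∧ b = p ^ j := by
  obtain ⟨_, p, i, hp, hpm, rfl⟩ := ha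
  obtain ⟨_, r, j, hr, hrm, rfl⟩ := hb
  by_cases h : p = r
  · subst h
    exact Or.inr ⟨p, i, j, hp, hpm, rfl, rfl⟩
  · refine Or.inl (IsCoprime.pow ((hp.coprime_iff_not_dvd).mpr fun hdvd => h ?_))
    exact eq_of_monic_of_associated hpm hrm (hp.associated_of_dvd hr hdvd)

/-- A monic good linear polynomial is `lin t`. -/
theorem exists_lin {p : F[X]} (hp : Good p) (hd : p.natDegree = 1) : ∃ t : Fˣ, p = lin t := by
  refine ⟨-Units.mk0 (p.coeff 0) hp.2.2, ?_⟩
  rw [lin, Units.val_neg, Units.val_mk0, map_neg, sub_neg_eq_add]
  exact hp.1.eq_X_add_C hd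

theorem dU_lin' (t : Fˣ) : dU (lin t) = t := dU_lin t

theorem lin_injective : Function.Injective (lin : Fˣ → F[X]) := by
  intro a b h
  have := congrArg (Polynomial.eval (a : F)) h
  simp [lin, sub_eq_zero] at this
  exact Units.ext (sub_eq_zero.mp this.symm)

theorem prod_perm {l l' : List F[X]} (p : l.Perm l') (h : (l.map dU).prod = 1) : (l'.map dU).prod = 1 :=
  ((p.map dU).prod_eq).symm.trans h

variable [Fintype F]

/-- Merge two coprime blocks of total degree at least three. -/
theorem commL_merge_big (hq : 4 ≤ Fintype.card F) {a b : F[X]} {r : List F[X]}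
    (hg : ∀ f ∈ a :: b :: r, Good f) (hab : IsCoprime a b) (h3 : 3 ≤ a.natDegree + b.natDegree)
    (hprod : ((a :: b :: r).map dU).prod = 1) : CommL (a :: b :: r) := by
  have ha := hg a (by simp)
  have hb := hg b (by simp)
  refine CommL.merge ha hb hab (commL_of_big hq (W := a * b) ?_ ?_ (List.mem_cons_self ..) ?_)
  · intro f hf
    rcases List.mem_cons.mp hf with rfl | hf
    · exact ha.mul hb
    · exact hg f (by simp [hf])
  · rw [List.map_cons, List.prod_cons, dU_mul ha hb, mul_assoc]
    simpa using hprod
  · rwa [natDegree_mul ha.1.ne_zero hb.1.ne_zero]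

/-- Every list of prime powers of total determinant one. -/
theorem commL_four (hq : 4 ≤ Fintype.card F) {l : List F[X]} (hl : ∀ f ∈ l, PP f)
    (hprod : (l.map dU).prod = 1) : CommL l := by
  classical
  have hg : ∀ f ∈ l, Good f := fun f hf => (hl f hf).1
  by_cases hbig : ∃ W ∈ l, 3 ≤ W.natDegree
  · obtain ⟨W, hW, hd⟩ := hbig
    exact commL_of_big hq hg hprod hW hd
  push Not at hbig
  by_cases hmerge : ∃ a ∈ l, ∃ b ∈ l.erase a, IsCoprime a b ∧ 3 ≤ a.natDegree + b.natDegree
  · obtain ⟨a, ha, b, hb, hab, h3⟩ := hmerge
    have hp : l.Perm (a :: b :: (l.erase a).erase b) :=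
      (List.perm_cons_erase ha).trans ((List.perm_cons_erase hb).cons a)
    exact (commL_merge_big hq (fun f hf => hg f (hp.mem_iff.mpr hf)) hab h3 (prod_perm hp hprod)).perm hp
  push Not at hmerge
  by_cases htwo : ∃ f ∈ l, f.natDegree = 2
  · obtain ⟨f, hf, hf2⟩ := htwo
    obtain ⟨⟨hfm, hfp, hf0⟩, p, i, hp, hpm, hfe⟩ := hl f hf
    have hdeg : i * p.natDegree = 2 := by rw [← natDegree_pow, ← hfe]; exact hf2
    have hsame : ∀ x ∈ l, ∃ j, x = p ^ j := by
      intro x hx
      by_cases hxf : x = f
      · exact ⟨i, hxf.trans hfe⟩
      · have hx' : x ∈ l.erase f := (List.mem_erase_of_ne hxf).mpr hx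
        rcases (hl f hf).coprime_or_same (hl x hx) with h | ⟨r, i', j', hr, hrm, he1, he2⟩
        · have := hmerge f hf x hx' h
          have := (hg x hx).2.1
          omega
        · refine ⟨j', ?_⟩
          have hi' : i' ≠ 0 := fun h0 => by
            rw [h0, pow_zero] at he1; rw [he1, natDegree_one] at hf2; omega
          have hpr : p = r := eq_of_monic_of_associated hpm hrm (hp.associated_of_dvd hr
            (hp.prime.dvd_of_dvd_pow (n := i') (by
              rw [← he1, hfe]
              exact dvd_pow_self p (fun h0 => by rw [h0] at hdeg; omega))))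
          rw [hpr]; exact he2
    rcases (show p.natDegree = 1 ∨ p.natDegree = 2 by
        have h1 : p.natDegree ∣ 2 := ⟨i, by rw [mul_comm]; exact hdeg.symm⟩
        have := Nat.le_of_dvd two_pos h1
        have := hp.natDegree_pos
        omega) with hp1 | hp2
    · -- one eigenvalue
      have hi : i = 2 := by rw [hp1] at hdeg; omega
      have hpgood : Good p := ⟨hpm, hp.natDegree_pos, fun h0 => hf0 (by
        rw [hfe, coeff_zero_eq_eval_zero, eval_pow, ← coeff_zero_eq_eval_zero, h0, zero_pow (by omega)])⟩
      obtain ⟨t, rfl⟩ := exists_lin hpgood hp1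
      have hmem : ∀ x ∈ l, x = lin t ∨ x = lin t * lin t := by
        intro x hx
        obtain ⟨j, rfl⟩ := hsame x hx
        have h1 := hbig _ hx
        have h2 := (hg _ hx).2.1
        rw [natDegree_pow, hp1] at h1 h2
        rcases (show j = 1 ∨ j = 2 by omega) with rfl | rfl
        · exact Or.inl (pow_one _)
        · exact Or.inr (sq _)
      have hne : lin t ≠ lin t * lin t := by
        intro h
        have := congrArg natDegree h
        rw [natDegree_mul hpgood.1.ne_zero hpgood.1.ne_zero, hp1] at this
        omega
      set T := l.count (lin t * lin t)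
      set J := l.count (lin t)
      have hperm : l.Perm (List.replicate T (lin t * lin t) ++ List.replicate J (lin t)) := by
        refine List.perm_iff_count.mpr fun x => ?_
        rw [List.count_append, List.count_replicate, List.count_replicate]
        by_cases hx : x ∈ l
        · rcases hmem x hx with rfl | rfl
          · simp [J, beq_iff_eq, hne.symm]
          · simp [T, beq_iff_eq, hne]
        · rw [List.count_eq_zero_of_not_mem hx]
          by_cases h1 : x = lin t * lin t
          · subst h1
            simp [T, beq_iff_eq, hne, List.count_eq_zero_of_not_mem hx]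
          by_cases h2 : x = lin t
          · subst h2
            simp [J, beq_iff_eq, hne.symm, List.count_eq_zero_of_not_mem hx]
          simp [beq_iff_eq, Ne.symm h1, Ne.symm h2]
      have hdet := prod_perm hperm hprod
      rw [List.map_append, List.map_replicate, List.map_replicate, List.prod_append, List.prod_replicate,
        List.prod_replicate, dU_lin', show dU (lin t * lin t) = t * t from (good_pair t t).2.2, ← sq,
        ← pow_mul, ← pow_add] at hdet
      exact (commL_jordan hq hdet).perm hperm
    · -- copies of one polynomial
      have hall : ∀ x ∈ l, x = f := by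
        intro x hx
        obtain ⟨j, rfl⟩ := hsame x hx
        have h1 := hbig _ hx
        have h2 := (hg _ hx).2.1
        rw [natDegree_pow, hp2] at h1 h2
        rw [hfe]
        congr 1
        rw [hp2] at hdeg
        omega
      have hrep : l = List.replicate l.length f := List.eq_replicate_of_mem hall
      rw [hrep] at hprod ⊢
      rw [List.map_replicate, List.prod_replicate] at hprod
      exact commL_twos hq ⟨hfm, hfp, hf0⟩ hf2 hprod
  · -- linear blocks
    push Not at htwo
    have hlin : ∀ x ∈ l, ∃ t : Fˣ, x = lin t := fun x hx => exists_lin (hg x hx) (by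
      have := hbig x hx; have := htwo x hx; have := (hg x hx).2.1; omega)
    obtain ⟨ts, rfl⟩ : ∃ ts : List Fˣ, ts.map lin = l := by
      clear hl hprod hg hbig hmerge htwo
      induction l with
      | nil => exact ⟨[], rfl⟩
      | cons a l ih =>
        obtain ⟨t, rfl⟩ := hlin a (by simp)
        obtain ⟨ts, rfl⟩ := ih fun x hx => hlin x (by simp [hx])
        exact ⟨t :: ts, rfl⟩
    have hdet : ts.prod = 1 := by
      rw [List.map_map] at hprod
      rw [← hprod]
      exact congrArg List.prod (List.map_id ts).symm |>.trans (congrArg List.prod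
        (List.map_congr_left fun t _ => (dU_lin' t).symm))
    by_cases hfew : ∀ a ∈ ts, ∀ b ∈ ts, ∀ c ∈ ts, a = b ∨ a = c ∨ b = c
    · rcases ts with _ | ⟨a, ts'⟩
      · exact commL_nil
      by_cases hb : ∃ b ∈ ts', b ≠ a
      · obtain ⟨b, hb, hba⟩ := hb
        have hperm : (a :: ts').Perm (List.replicate ((a :: ts').count a) a ++
            List.replicate ((a :: ts').count b) b) := by
          refine List.perm_iff_count.mpr fun x => ?_
          rw [List.count_append, List.count_replicate, List.count_replicate]
          by_cases hxa : x = a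
          · subst hxa; simp [beq_iff_eq, hba]
          by_cases hxb : x = b
          · subst hxb; simp [beq_iff_eq, Ne.symm hba]
          have hx : x ∉ a :: ts' := fun hx => by
            rcases hfew a (by simp) b (by simp [hb]) x hx with h | h | h
            exacts [hba h.symm, hxa h.symm, hxb h.symm]
          rw [List.count_eq_zero_of_not_mem hx]
          simp [beq_iff_eq, Ne.symm hxa, Ne.symm hxb]
        rw [hperm.prod_eq, List.prod_append, List.prod_replicate, List.prod_replicate] at hdet
        have h := commL_diag hq hba.symm (List.count_pos_iff.mpr (by simp) : 0 < (a :: ts').count a)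
          (List.count_pos_iff.mpr (by simp [hb]) : 0 < (a :: ts').count b) hdet
        refine h.perm ?_
        have := hperm.map lin
        rwa [List.map_append, List.map_replicate, List.map_replicate] at this
      · push Not at hb
        have hrep : a :: ts' = List.replicate (ts'.length + 1) a :=
          List.eq_replicate_of_mem fun x hx => by
            rcases List.mem_cons.mp hx with rfl | hx
            exacts [rfl, hb x hx]
        rw [hrep] at hdet ⊢
        rw [List.prod_replicate] at hdet
        rw [List.map_replicate]
        exact commL_lin_replicate a hdet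
    · push Not at hfew
      obtain ⟨a, ha, b, hb, c, hc, hab, hac, hbc⟩ := hfew
      have hp : ts.Perm (a :: b :: c :: ((ts.erase a).erase b).erase c) := by
        refine (List.perm_cons_erase ha).trans (List.Perm.cons _ ?_)
        refine (List.perm_cons_erase ((List.mem_erase_of_ne hab.symm).mpr hb)).trans (List.Perm.cons _ ?_)
        exact List.perm_cons_erase ((List.mem_erase_of_ne hbc.symm).mpr ((List.mem_erase_of_ne hac.symm).mpr hc))
      have hmap := hp.map lin
      refine CommL.perm ?_ hmap
      simp only [List.map_cons]
      refine CommL.merge (good_lin a) (good_lin b) (coprime_lin hab) ?_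
      refine commL_merge_big hq ?_ ((coprime_lin hac).mul_left (coprime_lin hbc)) ?_ ?_
      · intro f hf
        rcases List.mem_cons.mp hf with rfl | hf
        · exact (good_pair a b).1
        rcases List.mem_cons.mp hf with rfl | hf
        · exact good_lin c
        obtain ⟨t, _, rfl⟩ := List.mem_map.mp hf
        exact good_lin t
      · rw [show (lin a * lin b).natDegree = 2 from (good_pair a b).2.1, lin, natDegree_X_sub_C]
      · have := prod_perm hmap hprod
        simp only [List.map_cons, List.prod_cons] at this ⊢
        rw [show dU (lin a * lin b) = a * b from (good_pair a b).2.2]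
        simpa only [dU_lin', mul_assoc] using this

end CfsgLib.FGS.SLComm
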