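import Cfsg.Agent.Lib.FGS.SLComm.Three

/-!
# Every element of `SL n F` is a commutator
-/

set_option autoImplicit false

namespace CfsgLib.FGS.SLComm

open LinearMap Polynomial

universe u

/-- The reduction to block lists. -/
theorem exists_commutator_of_blocks {F : Type u} [Field F] [Fintype F] (n : ℕ)
    (h : ∀ l : List F[X], (∀ f ∈ l, PP f) → (l.map dU).prod = 1 → (l.map natDegree).sum = n → CommL l)
    (g : Matrix.SpecialLinearGroup (Fin n) F) :
    ∃ a b : Matrix.SpecialLinearGroup (Fin n) F, g = a * b * a⁻¹ * b⁻¹ := by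
  obtain ⟨l, hl, hblk⟩ := exists_blk (Matrix.SpecialLinearGroup.toGL g)
  set G : Matrix (Fin n) (Fin n) F := (g : Matrix (Fin n) (Fin n) F) with hG
  have hblk' : Blk l (Fin n → F) (Matrix.toLin' G) := hblk
  have hgood : ∀ f ∈ l, Good f := fun f hf => (hl f hf).1
  have hprod : (l.map dv).prod = 1 := by
    rw [← Blk.det l hgood hblk', LinearMap.det_toLin', hG]
    exact g.2
  obtain ⟨_, A, B, hA, hB, hab⟩ := h l (fun f hf => hl f hf) (dU_prod_eq_one hgood hprod)
    (by rw [← Blk.finrank l hgood hblk', Module.finrank_fin_fun]) (Fin n → F) (Matrix.toLin' G) hblk'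
  have hdet : ∀ C : (Fin n → F) ≃ₗ[F] (Fin n → F), LinearEquiv.det C = 1 →
      (LinearMap.toMatrix' (C : (Fin n → F) →ₗ[F] Fin n → F)).det = 1 := by
    intro C hC
    rw [LinearMap.det_toMatrix', ← LinearEquiv.coe_det, hC, Units.val_one]
  let a : Matrix.SpecialLinearGroup (Fin n) F := ⟨_, hdet A hA⟩
  let b : Matrix.SpecialLinearGroup (Fin n) F := ⟨_, hdet B hB⟩
  refine ⟨a, b, ?_⟩
  rw [eq_mul_inv_iff_mul_eq, eq_mul_inv_iff_mul_eq]
  apply Subtype.ext
  have h1 : (Matrix.toLin' G).comp ((B : (Fin n → F) →ₗ[F] Fin n → F).comp (A : (Fin n → F) →ₗ[F] Fin n → F)) =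
      (A : (Fin n → F) →ₗ[F] Fin n → F).comp (B : (Fin n → F) →ₗ[F] Fin n → F) := by
    rw [hab]
    refine LinearMap.ext fun x => ?_
    change A (B (A⁻¹ (B⁻¹ (B (A x))))) = A (B x)
    rw [show B⁻¹ (B (A x)) = A x from B.symm_apply_apply _, show A⁻¹ (A x) = x from A.symm_apply_apply _]
  have h2 := congrArg LinearMap.toMatrix' h1
  rw [LinearMap.toMatrix'_comp, LinearMap.toMatrix'_comp, LinearMap.toMatrix'_comp, LinearMap.toMatrix'_toLin',
    ← Matrix.mul_assoc] at h2
  exact h2

/-- Transport along a ring isomorphism. -/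
theorem exists_commutator_of_ringEquiv {F : Type u} [Field F] {R : Type} [Field R] (e : F ≃+* R) (n : ℕ)
    (h : ∀ g : Matrix.SpecialLinearGroup (Fin n) R,
      ∃ a b : Matrix.SpecialLinearGroup (Fin n) R, g = a * b * a⁻¹ * b⁻¹)
    (g : Matrix.SpecialLinearGroup (Fin n) F) :
    ∃ a b : Matrix.SpecialLinearGroup (Fin n) F, g = a * b * a⁻¹ * b⁻¹ := by
  obtain ⟨a, b, hab⟩ := h (Matrix.SpecialLinearGroup.map (n := Fin n) e.toRingHom g)
  refine ⟨Matrix.SpecialLinearGroup.map (n := Fin n) e.symm.toRingHom a,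
    Matrix.SpecialLinearGroup.map (n := Fin n) e.symm.toRingHom b, ?_⟩
  rw [← map_inv, ← map_inv, ← map_mul, ← map_mul, ← map_mul, ← hab]
  ext i j
  simp

/-- Thompson's theorem for finite fields. -/
theorem exists_commutator {F : Type u} [Field F] [Fintype F] (n : ℕ) (hn : 2 ≤ n)
    (hex : n = 2 → 4 ≤ Fintype.card F) (g : Matrix.SpecialLinearGroup (Fin n) F) :
    ∃ a b : Matrix.SpecialLinearGroup (Fin n) F, g = a * b * a⁻¹ * b⁻¹ := by
  by_cases hq : 4 ≤ Fintype.card F
  · exact exists_commutator_of_blocks n (fun l hl hp _ => commL_four hq hl hp) g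
  have hn3 : 3 ≤ n := by
    rcases Nat.eq_or_lt_of_le hn with h | h
    · exact absurd (hex h.symm) hq
    · exact h
  have h1 := Fintype.one_lt_card (α := F)
  rcases (show Fintype.card F = 2 ∨ Fintype.card F = 3 by omega) with h2 | h3
  · refine exists_commutator_of_ringEquiv (ZMod.ringEquivOfPrime F Nat.prime_two h2).symm n ?_ g
    exact exists_commutator_of_blocks n fun l hl _ hd => commL_zmod_two hl (by omega)
  · refine exists_commutator_of_ringEquiv (ZMod.ringEquivOfPrime F Nat.prime_three h3).symm n ?_ g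
    exact exists_commutator_of_blocks n fun l hl hp hd => commL_zmod_three hl hp (by omega)

end CfsgLib.FGS.SLComm
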