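import Cfsg.Agent.Lib.FGS.SLComm.Scalar

/-!
# Lists of blocks of size at most two over fields with at least four elements
-/

set_option autoImplicit false

namespace CfsgLib.FGS.SLComm

open LinearMap Polynomial

universe u

variable {F : Type u} [Field F] [Fintype F]

theorem exists_avoid [DecidableEq F] (s : Finset Fˣ) (h : s.card + 1 < Fintype.card F) : ∃ e : Fˣ, e ∉ s := by
  by_contra hc
  push Not at hc
  have h1 : (Finset.univ : Finset Fˣ).card ≤ s.card := Finset.card_le_card fun e _ => hc e
  rw [Finset.card_univ, Fintype.card_units] at h1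
  omega

theorem exists_sq_ne_one (hq : 4 ≤ Fintype.card F) : ∃ c : Fˣ, c ≠ 1 ∧ c ≠ -1 := by
  classical
  obtain ⟨c, hc⟩ := exists_avoid ({1, -1} : Finset Fˣ)
    (by have := Finset.card_le_two (a := (1 : Fˣ)) (b := -1); omega)
  exact ⟨c, fun h => hc (by simp [h]), fun h => hc (by simp [h])⟩

/-- Every list has chains from every start. -/
theorem chainL_any (hq : 4 ≤ Fintype.card F) : ∀ l : List F[X], l ≠ [] → (∀ f ∈ l, Good f) → ∀ c : Fˣ,
    ∃ p, ChainL l c (c / (l.map dU).prod) p
  | [], h, _, _ => absurd rfl h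
  | f :: l, _, hg, c => by
    classical
    have hf := hg f (List.mem_cons_self ..)
    have hone : ∃ p, ChainL [f] c (c / dU f) p := by
      rcases Nat.lt_or_ge f.natDegree 3 with h | h
      · rcases (show f.natDegree = 1 ∨ f.natDegree = 2 by have := hf.2.1; omega) with h1 | h2
        · obtain ⟨t, ht⟩ : ∃ t : Fˣ, f = X - C (t : F) := by
            have hX : f = X + C (f.coeff 0) := hf.1.eq_X_add_C h1
            refine ⟨-Units.mk0 (f.coeff 0) hf.2.2, ?_⟩
            rw [Units.val_neg, Units.val_mk0, map_neg, sub_neg_eq_add]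
            exact hX
          subst ht
          exact ⟨c, by simpa using step_lin t c⟩
        · obtain ⟨e, he⟩ := exists_avoid ({c, c / dU f} : Finset Fˣ)
            (by have := Finset.card_le_two (a := c) (b := c / dU f); omega)
          exact ⟨_, step_two hf h2 (e := e) (fun h => he (by simp [h])) (fun h => he (by simp [h]))⟩
      · exact ⟨1, step_big hf h c 1⟩
    obtain ⟨p, hp⟩ := hone
    rcases eq_or_ne l [] with rfl | hl
    · exact ⟨p, by simpa using hp⟩
    · obtain ⟨q, hq'⟩ := chainL_any hq l hl (fun x hx => hg x (List.mem_cons_of_mem _ hx)) (c / dU f)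
      refine ⟨p * q, ?_⟩
      have := hp.append hq'
      rwa [div_div, ← List.prod_cons, ← List.map_cons] at this

/-- A list with a block of degree at least three. -/
theorem commL_of_big (hq : 4 ≤ Fintype.card F) {l : List F[X]} (hg : ∀ f ∈ l, Good f)
    (hprod : (l.map dU).prod = 1) {W : F[X]} (hW : W ∈ l) (hd : 3 ≤ W.natDegree) : CommL l := by
  classical
  refine CommL.perm ?_ (List.perm_cons_erase hW)
  refine commL_big (hg W hW) hd ?_ (((List.perm_cons_erase hW).map dU).prod_eq.symm.trans hprod)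
  rcases eq_or_ne (l.erase W) [] with h | h
  · exact Or.inl h
  · exact Or.inr fun c => chainL_any hq _ h (fun f hf => hg f (List.mem_of_mem_erase hf)) c

/-- The measure of a list of linear steps. -/
def pre : Fˣ → List Fˣ → Fˣ
  | _, [] => 1
  | s, t :: ts => s * pre (s / t) ts

omit [Fintype F] in
theorem pre_smul : ∀ (ts : List Fˣ) (a s : Fˣ), pre (a * s) ts = a ^ ts.length * pre s ts
  | [], a, s => by simp [pre]
  | t :: ts, a, s => by
    rw [pre, pre, mul_div_assoc, pre_smul ts a (s / t), List.length_cons, pow_succ]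
    rw [mul_mul_mul_comm, mul_comm a]

omit [Fintype F] in
theorem chainL_lins : ∀ (ts : List Fˣ), ts ≠ [] → ∀ s : Fˣ,
    ChainL (ts.map fun t : Fˣ => X - C (t : F)) s (s / ts.prod) (pre s ts)
  | [], h, _ => absurd rfl h
  | [t], _, s => by simpa [pre] using step_lin t s
  | t :: t' :: ts, _, s => by
    have h := (step_lin t s).append (chainL_lins (t' :: ts) (by simp) (s / t))
    rw [div_div, ← List.prod_cons] at h
    exact h

/-- One block of size two and determinant one. -/
theorem commL_two (hq : 4 ≤ Fintype.card F) {f : F[X]} (hf : Good f) (hd : f.natDegree = 2)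
    (h1 : dU f = 1) : CommL [f] := by
  obtain ⟨c, hc1, hc2⟩ := exists_sq_ne_one hq
  have hne : c⁻¹ ≠ c := by
    intro h
    have h2 : c * c = 1 := by nth_rewrite 2 [← h]; exact mul_inv_cancel c
    rcases mul_self_eq_one_iff.mp (congrArg Units.val h2 : (c : F) * c = 1) with h3 | h3
    · exact hc1 (Units.ext h3)
    · exact hc2 (Units.ext h3)
  have h := step_two hf hd (c := c) (e := c⁻¹) hne (by rwa [h1, div_one])
  rw [h1, div_one, inv_mul_cancel] at h
  exact h.comm

omit [Fintype F] in
theorem chainL_twos {f : F[X]} (hf : Good f) (hd : f.natDegree = 2) {u : Fˣ} (hu : u * dU f = 1)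
    (h1 : u ≠ 1) (h2 : u ^ 2 ≠ 1) : ∀ (m i : ℕ), ChainL (List.replicate (m + 1) f) (u ^ i) (u ^ (i + m + 1))
      (u ^ ((m + 1) * (2 * i + m + 2)))
  | 0, i => by
    have hdiv : u ^ i / dU f = u ^ (i + 1) := by
      rw [div_eq_iff_eq_mul, pow_succ, mul_assoc, hu, mul_one]
    have h := step_two hf hd (c := u ^ i) (e := u ^ (i + 2))
      (fun h => h2 (by rwa [pow_add, mul_eq_left] at h))
      (fun h => h1 (by rwa [hdiv, pow_succ u (i + 1), mul_eq_left] at h))
    rw [hdiv, ← pow_add] at h
    simpa [show (0 + 1) * (2 * i + 0 + 2) = i + 2 + i by omega] using h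
  | m + 1, i => by
    have h := (chainL_twos hf hd hu h1 h2 0 i).append (chainL_twos hf hd hu h1 h2 m (i + 1))
    rw [← pow_add, List.replicate_add .. |>.symm, show i + 1 + m + 1 = i + (m + 1) + 1 by omega,
      show (0 + 1) * (2 * i + 0 + 2) + (m + 1) * (2 * (i + 1) + m + 2) =
        (m + 1 + 1) * (2 * i + (m + 1) + 2) by ring, show 0 + 1 + (m + 1) = m + 1 + 1 by omega] at h
    exact h

/-- Equal blocks of size two. -/
theorem commL_twos (hq : 4 ≤ Fintype.card F) {f : F[X]} (hf : Good f) (hd : f.natDegree = 2) {t : ℕ}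
    (ht : dU f ^ t = 1) : CommL (List.replicate t f) := by
  classical
  obtain ⟨w, hw⟩ := orderOf_dvd_of_pow_eq_one ht
  have piece : CommL (List.replicate (orderOf (dU f)) f) := by
    have ho : 0 < orderOf (dU f) := orderOf_pos _
    rcases (show orderOf (dU f) = 1 ∨ orderOf (dU f) = 2 ∨ 3 ≤ orderOf (dU f) by omega) with h1 | h2 | h3
    · rw [h1]
      exact commL_two hq hf hd (orderOf_eq_one_iff.mp h1)
    · rw [h2]
      have hd1 : dU f ≠ 1 := fun h => by rw [h, orderOf_one] at h2; omega
      have hm1 : dU f = -1 := by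
        have h4 : dU f ^ 2 = 1 := h2 ▸ pow_orderOf_eq_one _
        rcases sq_eq_one_iff.mp (congrArg Units.val h4 : (dU f : F) ^ 2 = 1) with h | h
        · exact absurd (Units.ext h) hd1
        · exact Units.ext h
      obtain ⟨e, he1, he2⟩ := exists_sq_ne_one hq
      have hdiv : ∀ c : Fˣ, c / dU f = -c := fun c => by rw [hm1, div_eq_iff_eq_mul]; simp
      have ha := step_two hf hd (c := 1) (e := e) he1 (by rw [hdiv]; exact he2)
      have hb := step_two hf hd (c := -1) (e := -e⁻¹)
        (fun h => he1 (by simpa using h))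
        (fun h => he2 (by rw [hdiv, neg_neg, neg_eq_iff_eq_neg, inv_eq_iff_eq_inv] at h; simpa using h))
      rw [hdiv] at ha hb
      rw [neg_neg] at hb
      have h := ha.append hb
      rw [mul_one, neg_mul_neg, mul_one, mul_inv_cancel] at h
      exact h.comm
    · set u := (dU f)⁻¹ with hu
      have ho' : orderOf u = orderOf (dU f) := orderOf_inv _
      have hu1 : u ≠ 1 := fun h => by rw [h, orderOf_one] at ho'; omega
      have hu2 : u ^ 2 ≠ 1 := fun h => by
        have := Nat.le_of_dvd two_pos (orderOf_dvd_of_pow_eq_one h); omega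
      obtain ⟨m, hm⟩ : ∃ m, orderOf (dU f) = m + 1 := ⟨_, (Nat.sub_add_cancel ho).symm⟩
      have h := chainL_twos hf hd (inv_mul_cancel (dU f)) hu1 hu2 m 0
      rw [hm]
      rw [pow_zero, zero_add, ← hm, ← ho', pow_orderOf_eq_one, pow_mul, pow_orderOf_eq_one, one_pow, ho',
        hm] at h
      exact h.comm
  have := piece.replicate w
  rwa [List.flatten_replicate_replicate, Nat.mul_comm, ← hw] at this

omit [Fintype F] in
/-- Chains of unipotent-type blocks along powers of `u = t⁻¹`. -/
theorem chainL_jordan {t u : Fˣ} (hu : u * t = 1) (h1 : u ≠ 1) : ∀ (T j i : ℕ), 0 < T + j →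
    ∃ E, 2 * E = (2 * T + j) * (2 * i + (2 * T + j) - 1) ∧
      ChainL (List.replicate T ((X - C (t : F)) * (X - C (t : F))) ++ List.replicate j (X - C (t : F)))
        (u ^ i) (u ^ (i + (2 * T + j))) (u ^ E) := by
  have hlin : ∀ i : ℕ, ChainL [X - C (t : F)] (u ^ i) (u ^ (i + 1)) (u ^ i) := by
    intro i
    have h := step_lin t (u ^ i)
    rwa [show u ^ i / t = u ^ (i + 1) by rw [div_eq_iff_eq_mul, pow_succ, mul_assoc, hu, mul_one]] at h
  have hgood := (good_lin t).mul (good_lin t)
  have hdeg : ((X - C (t : F)) * (X - C (t : F))).natDegree = 2 := by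
    rw [natDegree_mul (good_lin t).1.ne_zero (good_lin t).1.ne_zero, natDegree_X_sub_C]
  have hjd : dU ((X - C (t : F)) * (X - C (t : F))) = t * t := by rw [dU_mul (good_lin t) (good_lin t), dU_lin]
  have htwo : ∀ i : ℕ, ChainL [(X - C (t : F)) * (X - C (t : F))] (u ^ i) (u ^ (i + 2)) (u ^ (2 * i + 1)) := by
    intro i
    have hdiv : u ^ i / (t * t) = u ^ (i + 2) := by
      rw [div_eq_iff_eq_mul, pow_succ, pow_succ, mul_assoc, mul_assoc, ← mul_assoc u t, hu, one_mul, hu,
        mul_one]
    have h := step_two hgood hdeg (c := u ^ i) (e := u ^ (i + 1))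
      (fun h => h1 (by rwa [pow_succ, mul_eq_left] at h))
      (fun h => h1 (by rw [hjd, hdiv, pow_succ u (i + 1), eq_comm, mul_eq_left] at h; exact h))
    rw [hjd, hdiv, ← pow_add, show i + 1 + i = 2 * i + 1 by omega] at h
    exact h
  intro T
  induction T with
  | zero =>
    intro j
    induction j with
    | zero => intro i h; omega
    | succ j ih =>
      intro i _
      rcases Nat.eq_zero_or_pos j with rfl | hj
      · exact ⟨i, by omega, by simpa using hlin i⟩
      · obtain ⟨E, hE, h⟩ := ih (i + 1) (by omega)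
        refine ⟨i + E, ?_, ?_⟩
        · rw [Nat.mul_add, hE]
          obtain ⟨k, rfl⟩ : ∃ k, j = k + 1 := ⟨j - 1, by omega⟩
          simp only [Nat.mul_zero, Nat.zero_add]
          rw [show 2 * (i + 1) + (k + 1) - 1 = 2 * i + k + 2 by omega,
            show 2 * i + (k + 1 + 1) - 1 = 2 * i + k + 1 by omega]
          ring
        · have h' := (hlin i).append h
          rw [← pow_add] at h'
          simpa [List.replicate_succ, Nat.add_assoc, Nat.add_comm 1 j] using h'
  | succ T ih =>
    intro j i _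
    rcases Nat.eq_zero_or_pos (T + j) with h0 | hpos
    · obtain ⟨rfl, rfl⟩ : T = 0 ∧ j = 0 := by omega
      exact ⟨2 * i + 1, by omega, by simpa using htwo i⟩
    · obtain ⟨E, hE, h⟩ := ih j (i + 2) hpos
      refine ⟨2 * i + 1 + E, ?_, ?_⟩
      · rw [Nat.mul_add, hE]
        obtain ⟨k, hk⟩ : ∃ k, 2 * T + j = k + 1 := ⟨2 * T + j - 1, by omega⟩
        rw [show 2 * (T + 1) + j = k + 3 by omega, hk, show 2 * (i + 2) + (k + 1) - 1 = 2 * i + k + 4 by omega,
          show 2 * i + (k + 3) - 1 = 2 * i + k + 2 by omega]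
        ring
      · have h' := (htwo i).append h
        rw [← pow_add] at h'
        simpa [List.replicate_succ, show i + 2 + (2 * T + j) = i + (2 * (T + 1) + j) by omega] using h'

/-- One eigenvalue, blocks of size one and two. -/
theorem commL_jordan (hq : 4 ≤ Fintype.card F) {t : Fˣ} {T j : ℕ} (hn : t ^ (2 * T + j) = 1) :
    CommL (List.replicate T ((X - C (t : F)) * (X - C (t : F))) ++ List.replicate j (X - C (t : F))) := by
  classical
  have hgood := (good_lin t).mul (good_lin t)
  have hdeg : ((X - C (t : F)) * (X - C (t : F))).natDegree = 2 := by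
    rw [natDegree_mul (good_lin t).1.ne_zero (good_lin t).1.ne_zero, natDegree_X_sub_C]
  have hjd : dU ((X - C (t : F)) * (X - C (t : F))) = t * t := by rw [dU_mul (good_lin t) (good_lin t), dU_lin]
  by_cases h2 : t * t = 1
  · have hj : t ^ j = 1 := by
      rw [pow_add, pow_mul, sq, h2, one_pow, one_mul] at hn
      exact hn
    refine CommL.append ?_ (commL_scalar t hj)
    have h := (commL_two hq hgood hdeg (hjd.trans h2)).replicate T
    rw [show (List.replicate T [(X - C (t : F)) * (X - C (t : F))]).flatten =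
      List.replicate T ((X - C (t : F)) * (X - C (t : F))) by simp] at h
    exact h
  · rcases Nat.eq_zero_or_pos T with rfl | hT
    · simpa using commL_scalar t (by simpa using hn)
    set u := t⁻¹ with hu
    have hu2 : u * u ≠ 1 := fun h => h2 (by rw [← inv_inj, mul_inv, inv_one]; exact h)
    have hu1 : u ≠ 1 := fun h => hu2 (by rw [h, one_mul])
    have hun : u ^ (2 * T + j) = 1 := by rw [hu, inv_pow, hn, inv_one]
    obtain ⟨T, rfl⟩ : ∃ k, T = k + 1 := ⟨T - 1, by omega⟩
    have hrest : 0 < T + j := by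
      by_contra h0
      obtain ⟨rfl, rfl⟩ : T = 0 ∧ j = 0 := by omega
      exact h2 (by simpa [sq] using hn)
    obtain ⟨E, hE, h⟩ := chainL_jordan (inv_mul_cancel t) hu1 T j 2 hrest
    set Q := u ^ (1 + E) with hQ
    have hQ2 : Q * Q = 1 := by
      obtain ⟨k, hk⟩ : ∃ k, 2 * T + j = k + 1 := ⟨2 * T + j - 1, by omega⟩
      have hexp : 1 + E + (1 + E) = (2 * (T + 1) + j) * (k + 2) := by
        rw [show 1 + E + (1 + E) = 2 + 2 * E by omega, hE, hk, show 2 * (T + 1) + j = k + 3 by omega,
          show 2 * 2 + (k + 1) - 1 = k + 4 by omega]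
        ring
      rw [hQ, ← pow_add, hexp, pow_mul, hun, one_pow]
    have hdiv : (1 : Fˣ) / (t * t) = u ^ 2 := by rw [hu, one_div, mul_inv, sq]
    have hne : Q * u ≠ 1 := fun h => hu2 (by
      have h' : Q = u⁻¹ := eq_inv_of_mul_eq_one_left h
      rw [h', ← mul_inv, inv_eq_one] at hQ2
      exact hQ2)
    have hne' : Q * u ≠ u ^ 2 := fun h => hu2 (by
      rw [sq, mul_right_cancel_iff] at h
      rwa [h] at hQ2)
    have hfirst := step_two hgood hdeg (c := 1) (e := Q * u) hne (by rwa [hjd, hdiv])
    rw [hjd, hdiv] at hfirst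
    have h' := hfirst.append h
    rw [mul_one, mul_assoc, ← pow_succ', show E + 1 = 1 + E by omega, ← hQ, hQ2,
      show u ^ (2 + (2 * T + j)) = 1 by rw [show 2 + (2 * T + j) = 2 * (T + 1) + j by omega, hun]] at h'
    exact h'.comm

end CfsgLib.FGS.SLComm
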