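import Cfsg.Agent.Lib.FGS.SLComm.Schur

/-!
# One cyclic block

`AdjoinRoot f` with `deg f = m + 1` is the bordered map of a cyclic `θ = α * β⁻¹` on `F ^ m` by the
scalar `d f = (-1) ^ (m + 1) * f(0)`.
-/

set_option autoImplicit false

namespace CfsgLib.FGS.SLComm

open LinearMap Polynomial

universe u v w

/-- Similar `α`, `β` on `F ^ m` with `α * β⁻¹` cyclic, and a polynomial killing `α`. -/
structure Alpha (F : Type u) [Field F] (m : ℕ) where
  α : (Fin m → F) ≃ₗ[F] (Fin m → F)
  E : (Fin m → F) ≃ₗ[F] (Fin m → F)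
  e : Fin m → F
  indep : LinearIndependent F fun j : Fin m => ((α * (conjE E α)⁻¹) ^ (j : ℕ)) e
  h : F[X]
  kills : aeval (α : Module.End F (Fin m → F)) h = 0

variable {F : Type u} [Field F]

/-- Multiplication by the root. -/
noncomputable def rootL (f : F[X]) : Module.End F (AdjoinRoot f) := LinearMap.mulLeft F (AdjoinRoot.root f)

@[simp] theorem rootL_apply (f : F[X]) (x : AdjoinRoot f) : rootL f x = AdjoinRoot.root f * x := rfl

/-- The determinant of multiplication by the root. -/
noncomputable def dv (f : F[X]) : F := (-1) ^ f.natDegree * f.coeff 0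

theorem det_rootL {f : F[X]} (hf : f.Monic) : LinearMap.det (rootL f) = dv f := by
  have h := Algebra.PowerBasis.norm_gen_eq_coeff_zero_minpoly (AdjoinRoot.powerBasis hf.ne_zero)
  rw [AdjoinRoot.minpoly_powerBasis_gen_of_monic hf] at h
  simp only [AdjoinRoot.powerBasis_gen, AdjoinRoot.powerBasis_dim] at h
  rw [dv, ← h, Algebra.norm_apply]
  rfl

theorem sum_mk_ne_zero {f : F[X]} (hf : f.Monic) {m : ℕ} (hdeg : f.natDegree = m + 1) (c : Fin (m + 1) → F)
    (h : ∑ j, c j • (AdjoinRoot.root f) ^ (j : ℕ) = 0) : c = 0 := by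
  let b := (AdjoinRoot.powerBasis hf.ne_zero)
  have hd : b.dim = m + 1 := by simp [b, hdeg]
  have hi := b.basis.linearIndependent.comp (Fin.cast hd.symm) (Fin.cast_injective _)
  rw [Fintype.linearIndependent_iff] at hi
  funext j
  refine hi c ?_ j
  simpa [b, PowerBasis.coe_basis] using h

/-- One block, next to anything. -/
theorem fac_root {m : ℕ} (D : Alpha F m) {f : F[X]} (hf : f.Monic) (hdeg : f.natDegree = m + 1)
    {V : Type v} [AddCommGroup V] [Module F V] [FiniteDimensional F V] (r : Module.End F V)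
    {M : Type w} [AddCommGroup M] [Module F M] [FiniteDimensional F M] {A B : M ≃ₗ[F] M}
    (hD : Fac ((LinearMap.mulLeft F (dv f)).prodMap r) A B)
    (hA : Function.Injective (aeval (A : Module.End F M) D.h))
    (hB : Function.Injective (aeval (B : Module.End F M) D.h)) :
    Fac ((rootL f).prodMap r) (D.α.prodCongr A) (D.α.prodCongr B) := by
  classical
  haveI : Module.Finite F (AdjoinRoot f) := (AdjoinRoot.powerBasis hf.ne_zero).finite
  have hfr : Module.finrank F (AdjoinRoot f) = m + 1 := by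
    rw [(AdjoinRoot.powerBasis hf.ne_zero).finrank, AdjoinRoot.powerBasis_dim, hdeg]
  set β := conjE D.E D.α with hβdef
  set θ := D.α * β⁻¹ with hθ
  set x := AdjoinRoot.root f with hx
  -- the basis of powers of `θ`
  let b : Module.Basis (Fin m) F (Fin m → F) :=
    basisOfLinearIndependentOfCardEqFinrank' (fun j : Fin m => (θ ^ (j : ℕ)) D.e) D.indep (by simp)
  have hb : ∀ j : Fin m, b j = (θ ^ (j : ℕ)) D.e := fun j => by simp [b]
  set c := b.repr ((θ ^ m) D.e) with hc
  set H : AdjoinRoot f := x ^ m - ∑ j : Fin m, c j • x ^ (j : ℕ) with hH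
  -- coordinates
  let Φ₀ : ((Fin m → F) × F) →ₗ[F] AdjoinRoot f :=
    LinearMap.coprod (b.constr F fun j : Fin m => x ^ (j : ℕ)) (LinearMap.toSpanSingleton F _ H)
  have hΦb : ∀ j : Fin m, Φ₀ (b j, 0) = x ^ (j : ℕ) := fun j => by simp [Φ₀]
  have hinj : Function.Injective Φ₀ := by
    rw [← LinearMap.ker_eq_bot, LinearMap.ker_eq_bot']
    rintro ⟨w, z⟩ hwz
    have h1 : Φ₀ (w, z) = ∑ i : Fin (m + 1),
        (Fin.snoc (fun j : Fin m => b.repr w j - z * c j) z : Fin (m + 1) → F) i • x ^ (i : ℕ) := by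
      rw [Fin.sum_univ_castSucc]
      simp only [Φ₀, LinearMap.coprod_apply, Module.Basis.constr_apply_fintype, Module.Basis.equivFun_apply,
        LinearMap.toSpanSingleton_apply, Fin.snoc_castSucc, Fin.snoc_last, Fin.val_castSucc, Fin.val_last,
        hH, smul_sub, Finset.smul_sum, smul_smul, sub_smul, Finset.sum_sub_distrib]
      abel
    rw [h1] at hwz
    have h2 := sum_mk_ne_zero hf hdeg _ hwz
    have hz : z = 0 := by simpa using congrFun h2 (Fin.last m)
    have hw : ∀ j, b.repr w j = 0 := fun j => by simpa [hz] using congrFun h2 j.castSucc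
    exact Prod.ext (b.ext_elem fun j => by simpa using hw j) hz
  let Φ : ((Fin m → F) × F) ≃ₗ[F] AdjoinRoot f := LinearEquiv.ofBijective Φ₀
    ⟨hinj, (LinearMap.injective_iff_surjective_of_finrank_eq_finrank (by simp [hfr])).mp hinj⟩
  let ψ : (Fin m → F) →ₗ[F] F := b.constr F fun j : Fin m => if (j : ℕ) + 1 = m then 1 else 0
  obtain ⟨v₀, s, hvs⟩ : ∃ v₀ s, Φ (v₀, s) = x * H := ⟨_, _, Φ.apply_symm_apply (x * H)⟩
  have hroot : ∀ w, x * Φ₀ (w, 0) = Φ₀ (θ w, ψ w) := by
    have : (LinearMap.mulLeft F x).comp (Φ₀.comp (LinearMap.inl F _ F)) =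
        Φ₀.comp (LinearMap.prod (θ : (Fin m → F) →ₗ[F] Fin m → F) ψ) := by
      refine b.ext fun j => ?_
      change x * Φ₀ (b j, 0) = Φ₀ (θ (b j), ψ (b j))
      rw [hΦb, ← pow_succ']
      have hθb : θ (b j) = (θ ^ ((j : ℕ) + 1)) D.e := by
        rw [hb, pow_succ']; rfl
      by_cases hj : (j : ℕ) + 1 = m
      · have hw : θ (b j) = (θ ^ m) D.e := by rw [hθb, hj]
        have hψ : ψ (b j) = 1 := by simp only [ψ, Module.Basis.constr_basis, if_pos hj]
        rw [hψ, hw, hj]
        simp only [Φ₀, LinearMap.coprod_apply, LinearMap.toSpanSingleton_apply, one_smul,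
          Module.Basis.constr_apply_fintype, Module.Basis.equivFun_apply, hH, ← hc]
        abel
      · have hj' : (j : ℕ) + 1 < m := lt_of_le_of_ne j.2 hj
        have hw : θ (b j) = b ⟨(j : ℕ) + 1, hj'⟩ := by rw [hθb, hb]
        rw [hw]
        simp only [ψ, Module.Basis.constr_basis, if_neg hj]
        rw [hΦb]
    exact fun w => LinearMap.congr_fun this w
  set v : (F × V) →ₗ[F] (Fin m → F) := (LinearMap.toSpanSingleton F _ v₀).comp (LinearMap.fst F F V) with hv
  set ψ' : (Fin m → F) →ₗ[F] F × V := (LinearMap.inl F F V).comp ψ with hψ'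
  set S : Module.End F (F × V) := (LinearMap.mulLeft F s).prodMap r with hS
  have hGeq : ∀ p, (rootL f).prodMap r (((LinearEquiv.prodAssoc F _ F V).symm.trans
      (Φ.prodCongr (LinearEquiv.refl F V))) p) = ((LinearEquiv.prodAssoc F _ F V).symm.trans
      (Φ.prodCongr (LinearEquiv.refl F V))) (border θ v ψ' S p) := by
    rintro ⟨w, z, y⟩
    change (x * Φ (w, z), r y) =
      (Φ (θ w + z • v₀, ψ w + s * z), (0 : V) + r y)
    rw [zero_add]
    refine Prod.ext ?_ rfl
    have e1 : Φ (w, z) = Φ₀ (w, 0) + z • H := by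
      change Φ₀ (w, z) = _
      simp [Φ₀]
    change x * Φ (w, z) = Φ (θ w + z • v₀, ψ w + s * z)
    rw [e1, mul_add, hroot, mul_smul_comm, ← hvs]
    change Φ (θ w, ψ w) + z • Φ (v₀, s) = _
    rw [← map_smul, ← map_add]
    exact congrArg Φ (Prod.ext rfl (by simp [mul_comm]))
  -- the Schur complement
  set t : F := s - ψ (θ.symm v₀) with ht
  have hSeq : S - (ψ'.comp θ.symm.toLinearMap).comp v = (LinearMap.mulLeft F t).prodMap r := by
    refine LinearMap.ext fun p => Prod.ext ?_ ?_
    · simp [hS, hψ', hv, ht, sub_mul, mul_comm p.1]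
    · simp [hS, hψ', hv]
  -- the determinant of the block is `t`
  have htd : t = dv f := by
    have hdet1 : LinearMap.det (θ : (Fin m → F) →ₗ[F] Fin m → F) = 1 := by
      rw [← LinearEquiv.coe_det, hθ, map_mul, map_inv, hβdef, det_conjE, mul_inv_cancel,
        Units.val_one]
    let v1 : F →ₗ[F] (Fin m → F) := LinearMap.toSpanSingleton F _ v₀
    have hG : LinearMap.det (border θ v1 ψ (LinearMap.mulLeft F s)) = t := by
      rw [det_border, hdet1, one_mul]
      have : LinearMap.mulLeft F s - (ψ.comp θ.symm.toLinearMap).comp v1 = LinearMap.mulLeft F t :=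
        LinearMap.ext fun z => by simp [v1, ht, sub_mul, mul_comm z]
      rw [this, det_mulLeft]
    rw [← det_rootL hf, ← hG, ← LinearMap.det_conj (border θ v1 ψ (LinearMap.mulLeft F s)) Φ]
    congr 1
    refine LinearMap.ext fun y => ?_
    obtain ⟨⟨w, z⟩, rfl⟩ := Φ.surjective y
    have h := congrArg Prod.fst (hGeq (w, z, (0 : V)))
    simp only [rootL_apply, LinearMap.comp_apply, LinearEquiv.coe_coe, LinearEquiv.symm_apply_apply]
    change Φ (θ w + z • v₀, ψ w + s * z) = x * Φ (w, z)
    exact h.symm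
  have hkβ : aeval (β : Module.End F (Fin m → F)) D.h = 0 := by
    have e : (β : Module.End F (Fin m → F)) = D.E.conjAlgEquiv F (D.α : Module.End F (Fin m → F)) := rfl
    rw [e, aeval_algEquiv, AlgHom.coe_comp, Function.comp_apply, D.kills, map_zero]
  rw [← htd] at hD
  have hfac := fac_border (α := D.α) (β := β) (θ := θ) hθ v ψ' S (A := A) (B := B)
    (by rw [hSeq]; exact hD) D.h D.kills hkβ hA hB
  have h2 := hfac.equiv ((LinearEquiv.prodAssoc F _ F V).symm.trans (Φ.prodCongr (LinearEquiv.refl F V)))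
    (g' := (rootL f).prodMap r) (fun p => (hGeq p).symm)
  exact h2.congr (LinearEquiv.refl F _) (D.E.prodCongr (LinearEquiv.refl F M)) rfl
    (LinearEquiv.ext fun p => rfl)

theorem aeval_smulE (c : Fˣ) (p : F[X]) :
    aeval (smulE c : Module.End F F) p = LinearMap.mulLeft F (p.eval (c : F)) := by
  have e : (smulE c : Module.End F F) = Algebra.lmul F F (c : F) := LinearMap.ext fun x => rfl
  rw [e, aeval_algHom_apply, coe_aeval_eq_eval]
  rfl

theorem injective_aeval_smulE {c : Fˣ} {p : F[X]} (hp : p.eval (c : F) ≠ 0) :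
    Function.Injective (aeval (smulE c : Module.End F F) p) := by
  rw [aeval_smulE]
  exact mul_right_injective₀ hp

/-- One block, alone. -/
theorem fac_root_one {m : ℕ} (D : Alpha F m) {f : F[X]} (hf : f.Monic) (hdeg : f.natDegree = m + 1)
    {c c' : Fˣ} (hd : dv f = (c : F) / (c' : F)) (hc : D.h.eval (c : F) ≠ 0) (hc' : D.h.eval (c' : F) ≠ 0) :
    Fac (rootL f) (D.α.prodCongr (smulE c)) (D.α.prodCongr (smulE c')) := by
  have h : Fac ((LinearMap.mulLeft F (dv f)).prodMap (0 : Module.End F PUnit.{u + 1})) (smulE c) (smulE c') := by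
    refine ⟨LinearEquiv.prodUnique.symm, LinearEquiv.prodUnique.symm, LinearMap.ext fun p => ?_⟩
    refine Prod.ext ?_ (Subsingleton.elim _ _)
    change dv f * p.1 = (c : F) * ((c'⁻¹ : Fˣ) * p.1)
    rw [hd, Units.val_inv_eq_inv_val, ← mul_assoc, div_eq_mul_inv]
  have h' := fac_root D hf hdeg (0 : Module.End F PUnit.{u + 1}) h (injective_aeval_smulE hc)
    (injective_aeval_smulE hc')
  exact h'.equiv LinearEquiv.prodUnique (fun p => rfl)

/-- One block is a chain step. -/
theorem chain_root {m : ℕ} (D : Alpha F m) {f : F[X]} (hf : f.Monic) (hdeg : f.natDegree = m + 1)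
    {c c' : Fˣ} (hd : dv f = (c : F) / (c' : F)) (hc : D.h.eval (c : F) ≠ 0) (hc' : D.h.eval (c' : F) ≠ 0) :
    Chain (rootL f) c c' (LinearEquiv.det D.α) :=
  Chain.mk' D.α (fac_root_one D hf hdeg hd hc hc')

end CfsgLib.FGS.SLComm
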