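import Cfsg.Agent.Lib.FGS.SLComm.Steps

/-!
# Scalar transformations

With `o = orderOf t` the scalar `t` of size `o` is `A * B⁻¹` for `A = diag (t⁻ⁱ C)`, `B = diag (t⁻ⁱ⁻¹ C)`,
where `C = 1` for odd `o`, and for `o = 2 h` one takes blocks of size two with `C ^ 2 = -t ^ (h - 1)`.
-/

set_option autoImplicit false

namespace CfsgLib.FGS.SLComm

open LinearMap Polynomial

universe u

variable {F : Type u} [Field F]

section Cyclic

variable {M : Type u} [AddCommGroup M] [Module F M] [FiniteDimensional F M]

theorem det_piCongr {h : ℕ} (A : Fin h → (M ≃ₗ[F] M)) :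
    LinearEquiv.det (LinearEquiv.piCongrRight A) = ∏ i, LinearEquiv.det (A i) := by
  classical
  apply Units.ext
  rw [LinearEquiv.coe_det, Units.coe_prod]
  exact (LinearMap.det_pi (fun i => (A i : M →ₗ[F] M))).trans
    (Finset.prod_congr rfl fun i _ => (LinearEquiv.coe_det _).symm)

theorem det_smul_unit (c : Fˣ) :
    LinearEquiv.det (LinearEquiv.smulOfUnit c : M ≃ₗ[F] M) = c ^ Module.finrank F M := by
  apply Units.ext
  rw [LinearEquiv.coe_det]
  have : (LinearEquiv.smulOfUnit c : M ≃ₗ[F] M).toLinearMap = (c : F) • LinearMap.id :=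
    LinearMap.ext fun x => rfl
  rw [this, LinearMap.det_smul, LinearMap.det_id, mul_one, Units.val_pow_eq_pow_val]

/-- The cyclic construction. -/
theorem isComm_scalar_cycle {h : ℕ} (t : Fˣ) (C E : M ≃ₗ[F] M)
    (hwrap : ∀ x, E (C (E.symm x)) = ((t⁻¹) ^ (h + 1) : Fˣ) • C x)
    (hdet : (∏ i : Fin (h + 1), (t⁻¹ ^ (i : ℕ)) ^ Module.finrank F M * LinearEquiv.det C) = 1)
    (hz : ∀ s : Fˣ, ∃ z : M ≃ₗ[F] M, Commute z C ∧ LinearEquiv.det z = s) :
    IsComm ((t : F) • LinearMap.id : Module.End F (Fin (h + 1) → M)) := by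
  classical
  let c : ℕ → (M ≃ₗ[F] M) := fun i => LinearEquiv.smulOfUnit (t⁻¹ ^ i) * C
  let A := LinearEquiv.piCongrRight fun i : Fin (h + 1) => c (i : ℕ)
  let B := LinearEquiv.piCongrRight fun i : Fin (h + 1) => c ((i : ℕ) + 1)
  have hfac : Fac ((t : F) • LinearMap.id : Module.End F (Fin (h + 1) → M)) A B := by
    refine ⟨LinearEquiv.refl F _, LinearEquiv.refl F _, LinearMap.ext fun v => funext fun i => ?_⟩
    change (t : F) • v i = c (i : ℕ) ((c ((i : ℕ) + 1)).symm (v i))
    obtain ⟨y, hy⟩ := (c ((i : ℕ) + 1)).surjective (v i)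
    rw [← hy, LinearEquiv.symm_apply_apply]
    change (t : F) • ((t⁻¹ ^ ((i : ℕ) + 1) : Fˣ) : F) • C y = ((t⁻¹ ^ (i : ℕ) : Fˣ) : F) • C y
    rw [smul_smul, ← Units.val_mul]
    congr 2
    rw [pow_succ, mul_comm, mul_assoc, inv_mul_cancel, mul_one]
  -- `B` is similar to `A`
  let σ : Fin (h + 1) ≃ Fin (h + 1) := finRotate (h + 1)
  let e : ∀ i : Fin (h + 1), M ≃ₗ[F] M := fun i => if i = Fin.last h then E else LinearEquiv.refl F M
  let R : (Fin (h + 1) → M) ≃ₗ[F] (Fin (h + 1) → M) :=
    (LinearEquiv.funCongrLeft F M σ).trans (LinearEquiv.piCongrRight e)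
  have hB : B = conjE R A := by
    refine LinearEquiv.ext fun v => funext fun i => ?_
    have hR : R.symm v (σ i) = (e i).symm (v i) := by
      obtain ⟨w, rfl⟩ := R.surjective v
      rw [LinearEquiv.symm_apply_apply]
      change w (σ i) = (e i).symm (e i (w (σ i)))
      rw [LinearEquiv.symm_apply_apply]
    change c ((i : ℕ) + 1) (v i) = e i (c ((σ i : Fin (h + 1)) : ℕ) (R.symm v (σ i)))
    rw [hR]
    by_cases hi : i = Fin.last h
    · have hσ : σ i = 0 := by subst hi; exact finRotate_last
      rw [hσ]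
      simp only [e, if_pos hi]
      simp only [hi, Fin.val_last, Fin.val_zero]
      change ((t⁻¹ ^ (h + 1) : Fˣ) : F) • C (v (Fin.last h)) =
        E (((t⁻¹ ^ 0 : Fˣ) : F) • C (E.symm (v (Fin.last h))))
      rw [pow_zero, Units.val_one, one_smul, hwrap]
      rfl
    · have hlt : (i : ℕ) < h := by
        have h1 := i.2
        have h2 : (i : ℕ) ≠ h := fun hh => hi (Fin.ext hh)
        omega
      have hσ : ((σ i : Fin (h + 1)) : ℕ) = (i : ℕ) + 1 := coe_finRotate_of_ne_last hi
      simp only [e, if_neg hi, hσ]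
      rfl
  refine isComm_of_fac (A := A) (hfac.congr (LinearEquiv.refl F _) R rfl hB) ?_ ?_
  · rw [det_piCongr, ← hdet]
    exact Finset.prod_congr rfl fun i _ => by simp only [c, map_mul, det_smul_unit]
  · intro s
    obtain ⟨z, hzC, hzd⟩ := hz s
    refine ⟨LinearEquiv.piCongrRight fun i : Fin (h + 1) => if i = 0 then z else 1, ?_, ?_⟩
    · refine LinearEquiv.ext fun v => funext fun i => ?_
      change (if i = 0 then z else 1) (c (i : ℕ) (v i)) = c (i : ℕ) ((if i = 0 then z else 1) (v i))
      split_ifs with hi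
      · have hc : z (C (v i)) = C (z (v i)) := LinearEquiv.congr_fun hzC.eq (v i)
        change z (((t⁻¹ ^ (i : ℕ) : Fˣ) : F) • C (v i)) = _
        rw [map_smul, hc]
        rfl
      · rfl
    · rw [det_piCongr, Finset.prod_eq_single 0 (fun i _ hi => by rw [if_neg hi, map_one])
        (fun h0 => absurd (Finset.mem_univ _) h0), if_pos rfl, hzd]

end Cyclic

/-- A scalar does not see the coordinates. -/
theorem isComm_scalar_equiv {V W : Type*} [AddCommGroup V] [Module F V] [AddCommGroup W] [Module F W]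
    (t : F) (e : V ≃ₗ[F] W) (h : IsComm (t • LinearMap.id : Module.End F V)) :
    IsComm (t • LinearMap.id : Module.End F W) :=
  h.equiv e fun x => by simp

theorem prod_inv_pow (t : Fˣ) (r : ℕ) : (∏ i : Fin r, t⁻¹ ^ (i : ℕ)) = t⁻¹ ^ (r.choose 2) := by
  rw [Fin.prod_univ_eq_prod_range (fun i => t⁻¹ ^ i), Finset.prod_pow_eq_pow_sum, Finset.sum_range_id,
    Nat.choose_two_right]

/-- The scalar `t` in dimension `orderOf t`. -/
theorem isComm_scalar_order [Finite F] (t : Fˣ) :
    IsComm ((t : F) • LinearMap.id : Module.End F (Fin (orderOf t) → F)) := by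
  classical
  haveI := Fintype.ofFinite F
  have ho : 0 < orderOf t := orderOf_pos t
  have hord : t⁻¹ ^ orderOf t = 1 := by rw [inv_pow, pow_orderOf_eq_one, inv_one]
  rcases Nat.even_or_odd (orderOf t) with ⟨h, hh⟩ | ⟨k, hk⟩
  · -- blocks of size two
    obtain ⟨g, rfl⟩ : ∃ g, h = g + 1 := ⟨h - 1, by omega⟩
    have ht2 : t⁻¹ ^ (g + 1) = -1 := by
      have h1 : (t⁻¹ ^ (g + 1)) ^ 2 = 1 := by rw [← pow_mul, show (g + 1) * 2 = orderOf t by omega, hord]
      rcases sq_eq_one_iff.mp (congrArg Units.val h1 : ((t⁻¹ ^ (g + 1) : Fˣ) : F) ^ 2 = 1) with h2 | h2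
      · exfalso
        have h3 : t ^ (g + 1) = 1 := by rw [← inv_eq_one, ← inv_pow]; exact Units.ext h2
        have := Nat.le_of_dvd (Nat.succ_pos g) (orderOf_dvd_of_pow_eq_one h3)
        omega
      · exact Units.ext h2
    have hchar : ringChar F ≠ 2 := by
      intro h2
      haveI : CharP F 2 := ringChar.of_eq h2
      have h1 : t⁻¹ ^ (g + 1) = 1 := by rw [ht2]; exact Units.ext (by simp [CharTwo.neg_eq])
      rw [inv_pow, inv_eq_one] at h1
      have := Nat.le_of_dvd (Nat.succ_pos g) (orderOf_dvd_of_pow_eq_one h1)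
      omega
    set N : Fˣ := t ^ g with hN
    let C : (F × F) ≃ₗ[F] (F × F) :=
      { toFun := fun v => (-(N : F) * v.2, v.1)
        invFun := fun v => (v.2, -((N⁻¹ : Fˣ) : F) * v.1)
        map_add' := fun v w => Prod.ext (mul_add _ _ _) rfl
        map_smul' := fun c v => Prod.ext (by simp; ring) rfl
        left_inv := fun v => by simp
        right_inv := fun v => by simp }
    let E : (F × F) ≃ₗ[F] (F × F) := (LinearEquiv.refl F F).prodCongr (LinearEquiv.neg F)
    have detPair : ∀ (L : (F × F) ≃ₗ[F] (F × F)) (a b c d : F), L (1, 0) = (a, c) → L (0, 1) = (b, d) →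
        (LinearEquiv.det L : F) = a * d - b * c := by
      intro L a b c d h1 h2
      rw [LinearEquiv.coe_det, ← LinearMap.det_toMatrix (Module.Basis.finTwoProd F), Matrix.det_fin_two]
      simp [LinearMap.toMatrix_apply, h1, h2]
    have hC : LinearEquiv.det C = N := by
      apply Units.ext
      rw [detPair C 0 (-(N : F)) 1 0 (by simp [C]) (by simp [C])]
      ring
    refine isComm_scalar_equiv (t : F) ?_ (isComm_scalar_cycle (h := g) t C E ?_ ?_ ?_)
    · refine LinearEquiv.ofFinrankEq _ _ ?_
      rw [Module.finrank_pi_fintype, Finset.sum_const, Finset.card_univ, Fintype.card_fin,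
        Module.finrank_prod, Module.finrank_self, Module.finrank_fin_fun, smul_eq_mul]
      omega
    · intro x
      rw [ht2]
      refine Prod.ext ?_ ?_ <;> simp [E, C, Units.smul_def]
    · rw [Module.finrank_prod, Module.finrank_self, Finset.prod_mul_distrib, Finset.prod_pow, prod_inv_pow,
        Finset.prod_const, Finset.card_univ, Fintype.card_fin, hC, hN, ← pow_mul, ← pow_mul, inv_pow,
        inv_mul_eq_one]
      congr 1
      rw [Nat.choose_two_right, show (1 + 1 : ℕ) = 2 from rfl,
        Nat.div_mul_cancel (Nat.even_mul_pred_self _).two_dvd]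
      simp [Nat.mul_comm]
    · intro s
      obtain ⟨y, x, hyx⟩ : ∃ y x : F, y ^ 2 + N * x ^ 2 = s := by
        obtain ⟨y, x, hyx⟩ := FiniteField.exists_root_sum_quadratic (R := F)
          (f := X ^ 2) (g := Polynomial.C (N : F) * X ^ 2 + Polynomial.C (0 : F) * X + Polynomial.C (-(s : F)))
          (degree_X_pow 2) (degree_quadratic N.ne_zero)
          (FiniteField.odd_card_of_char_ne_two hchar)
        refine ⟨y, x, ?_⟩
        simp at hyx
        linear_combination hyx
      have hs : y ^ 2 + N * x ^ 2 ≠ 0 := hyx ▸ s.ne_zero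
      let z : (F × F) ≃ₗ[F] (F × F) :=
        { toFun := fun v => (y * v.1 - N * x * v.2, x * v.1 + y * v.2)
          invFun := fun v => ((y * v.1 + N * x * v.2) / (y ^ 2 + N * x ^ 2),
            (y * v.2 - x * v.1) / (y ^ 2 + N * x ^ 2))
          map_add' := fun v w => Prod.ext (by simp; ring) (by simp; ring)
          map_smul' := fun c v => Prod.ext (by simp; ring) (by simp; ring)
          left_inv := fun v => Prod.ext (by rw [div_eq_iff hs]; ring) (by rw [div_eq_iff hs]; ring)
          right_inv := fun v => Prod.ext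
            (by dsimp only; rw [mul_div_assoc', mul_div_assoc', ← sub_div, div_eq_iff hs]; ring)
            (by dsimp only; rw [mul_div_assoc', mul_div_assoc', ← add_div, div_eq_iff hs]; ring) }
      refine ⟨z, LinearEquiv.ext fun v => Prod.ext ?_ ?_, Units.ext ?_⟩
      · simp [z, C]; ring
      · simp [z, C]; ring
      · rw [detPair z y (-(N : F) * x) x y (by simp [z]) (by simp [z]), ← hyx]
        ring
  · -- odd order
    refine isComm_scalar_equiv (t : F) (LinearEquiv.funCongrLeft F F (finCongr hk)) ?_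
    refine isComm_scalar_cycle (M := F) (h := 2 * k) t 1 1 ?_ ?_ ?_
    · intro x
      rw [← hk, hord, one_smul]
      rfl
    · rw [Module.finrank_self]
      simp only [pow_one, map_one, mul_one]
      rw [prod_inv_pow, ← orderOf_dvd_iff_pow_eq_one, orderOf_inv, hk, Nat.choose_two_right,
        Nat.add_sub_cancel, Nat.mul_div_assoc _ (Dvd.intro k rfl)]
      exact Dvd.intro _ rfl
    · intro s
      exact ⟨smulE s, Commute.one_right _, det_smulE s⟩

/-- Scalars of determinant one. -/
theorem isComm_scalar [Finite F] (t : Fˣ) : ∀ (w : ℕ),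
    IsComm ((t : F) • LinearMap.id : Module.End F (Fin (orderOf t * w) → F))
  | 0 => by
    haveI : IsEmpty (Fin (orderOf t * 0)) := by rw [Nat.mul_zero]; infer_instance
    exact isComm_of_subsingleton _
  | w + 1 => by
    have h := (isComm_scalar_order t).prod (isComm_scalar t w)
    refine h.equiv (((LinearEquiv.sumArrowLequivProdArrow _ _ F F).symm.trans
      (LinearEquiv.funCongrLeft F F finSumFinEquiv.symm)).trans
      (LinearEquiv.funCongrLeft F F (finCongr (show orderOf t * (w + 1) = orderOf t + orderOf t * w by ring)))) ?_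
    intro x
    exact map_smul _ (t : F) x

theorem blk_replicate_lin (t : F) : ∀ (r : ℕ) {V : Type u} [AddCommGroup V] [Module F V] {g : Module.End F V},
    Blk (List.replicate r (X - C t)) V g → g = t • LinearMap.id
  | 0, V, _, _, g, h => by
    simp only [List.replicate_zero, Blk] at h
    haveI := h
    exact LinearMap.ext fun x => Subsingleton.elim _ _
  | r + 1, V, _, _, g, h => by
    simp only [List.replicate_succ, Blk] at h
    obtain ⟨V', i1, i2, g', e, h1, h2⟩ := h
    refine LinearMap.ext fun x => e.injective ?_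
    rw [h2, blk_replicate_lin t r h1, LinearMap.smul_apply, LinearMap.id_apply, map_smul]
    exact Prod.ext (root_lin t _) rfl

/-- A scalar list. -/
theorem commL_scalar [Finite F] (t : Fˣ) {r : ℕ} (hr : t ^ r = 1) :
    CommL (List.replicate r (X - C (t : F))) := by
  intro V _ _ g hg
  obtain ⟨w, hw⟩ := orderOf_dvd_of_pow_eq_one hr
  have hgood : ∀ f ∈ List.replicate r (X - C (t : F)), Good f := fun f hf => by
    rw [List.eq_of_mem_replicate hf]; exact good_lin t
  haveI := Blk.finite _ hgood hg
  refine ⟨inferInstance, ?_⟩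
  have hdim : Module.finrank F V = orderOf t * w := by
    rw [Blk.finrank _ hgood hg]; simp [hw]
  rw [blk_replicate_lin (t : F) r hg]
  exact isComm_scalar_equiv (t : F) (LinearEquiv.ofFinrankEq _ _ (by rw [hdim]; simp)) (isComm_scalar t w)

end CfsgLib.FGS.SLComm
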