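import Cfsg.Agent.Lib.FGS.SLComm.Basic

/-!
# Factorisation of a bordered map

For `G (w, y) = (θ w + v y, ψ w + S y)` with `θ = α * β⁻¹` and Schur complement
`D = S - ψ θ⁻¹ v = a * b⁻¹`, we get `G = a' * b'⁻¹` with `a'` similar to `α × a` and `b'` similar to
`β × b`, provided `α`, `a` (and `β`, `b`) have coprime spectra.
-/

set_option autoImplicit false

namespace CfsgLib.FGS.SLComm

open LinearMap Polynomial

universe u v w

variable {F : Type u} [Field F] {K : Type v} {N : Type w} [AddCommGroup K] [Module F K] [AddCommGroup N]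
  [Module F N]

/-- `(k, n) ↦ (k, n + f k)`. -/
def lowE (f : K →ₗ[F] N) : (K × N) ≃ₗ[F] (K × N) where
  toFun p := (p.1, p.2 + f p.1)
  invFun p := (p.1, p.2 - f p.1)
  map_add' p q := Prod.ext rfl (by simp only [Prod.fst_add, Prod.snd_add, map_add]; abel)
  map_smul' c p := Prod.ext rfl (by simp [smul_add])
  left_inv p := by simp
  right_inv p := by simp

/-- `(k, n) ↦ (k + f n, n)`. -/
def upE (f : N →ₗ[F] K) : (K × N) ≃ₗ[F] (K × N) where
  toFun p := (p.1 + f p.2, p.2)
  invFun p := (p.1 - f p.2, p.2)
  map_add' p q := Prod.ext (by simp only [Prod.fst_add, Prod.snd_add, map_add]; abel) rfl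
  map_smul' c p := Prod.ext (by simp [smul_add]) rfl
  left_inv p := by simp
  right_inv p := by simp

@[simp] theorem lowE_apply (f : K →ₗ[F] N) (p : K × N) : lowE f p = (p.1, p.2 + f p.1) := rfl
@[simp] theorem upE_apply (f : N →ₗ[F] K) (p : K × N) : upE f p = (p.1 + f p.2, p.2) := rfl
@[simp] theorem lowE_symm_apply (f : K →ₗ[F] N) (p : K × N) : (lowE f).symm p = (p.1, p.2 - f p.1) := rfl
@[simp] theorem upE_symm_apply (f : N →ₗ[F] K) (p : K × N) : (upE f).symm p = (p.1 - f p.2, p.2) := rfl

theorem det_lowE [FiniteDimensional F K] [FiniteDimensional F N] (f : K →ₗ[F] N) :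
    LinearEquiv.det (lowE f) = 1 := by
  classical
  apply Units.ext
  rw [LinearEquiv.coe_det, Units.val_one]
  let b := Module.finBasis F K
  let c := Module.finBasis F N
  have h : LinearMap.toMatrix (b.prod c) (b.prod c) (lowE f : K × N →ₗ[F] K × N) =
      Matrix.fromBlocks 1 0 (LinearMap.toMatrix b c f) 1 := by
    ext i j
    rcases i with i | i <;> rcases j with j | j <;>
      simp [LinearMap.toMatrix_apply, Matrix.one_apply, Finsupp.single_apply, eq_comm]
  rw [← LinearMap.det_toMatrix (b.prod c), h, Matrix.det_fromBlocks_zero₁₂, Matrix.det_one, Matrix.det_one,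
    one_mul]

theorem det_upE [FiniteDimensional F K] [FiniteDimensional F N] (f : N →ₗ[F] K) :
    LinearEquiv.det (upE f) = 1 := by
  have h : upE f = conjE (LinearEquiv.prodComm F N K) (lowE f) := LinearEquiv.ext fun p => rfl
  rw [h, det_conjE, det_lowE]

/-- Sylvester: `X ↦ X a - b X` is bijective for coprime spectra. -/
theorem sylvester [FiniteDimensional F K] [FiniteDimensional F N] (a : Module.End F K) (b : Module.End F N)
    (h : F[X]) (ha : aeval a h = 0) (hb : Function.Injective (aeval b h)) (l : K →ₗ[F] N) :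
    ∃ X : K →ₗ[F] N, X.comp a - b.comp X = l := by
  let T : (K →ₗ[F] N) →ₗ[F] (K →ₗ[F] N) :=
    LinearMap.lcomp F N a - LinearMap.llcomp F K N N b
  have hT : Function.Injective T := by
    rw [← LinearMap.ker_eq_bot, LinearMap.ker_eq_bot']
    intro X hX
    have hc : X.comp a = b.comp X := sub_eq_zero.mp hX
    have hp : ∀ p : F[X], X.comp (aeval a p) = (aeval b p).comp X := by
      intro p
      induction p using Polynomial.induction_on' with
      | add p q hp hq => rw [map_add, map_add, LinearMap.comp_add, LinearMap.add_comp, hp, hq]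
      | monomial n c =>
        rw [aeval_monomial, aeval_monomial, ← Algebra.smul_def, ← Algebra.smul_def, LinearMap.comp_smul,
          LinearMap.smul_comp]
        congr 1
        induction n with
        | zero => rw [pow_zero, pow_zero]; rfl
        | succ n ih =>
          rw [pow_succ, pow_succ, Module.End.mul_eq_comp, Module.End.mul_eq_comp, ← LinearMap.comp_assoc,
            ih, LinearMap.comp_assoc, hc, ← LinearMap.comp_assoc]
    refine LinearMap.ext fun x => hb ?_
    have := LinearMap.congr_fun (hp h) x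
    rw [ha, LinearMap.comp_zero, LinearMap.zero_apply, LinearMap.comp_apply] at this
    rw [← this, LinearMap.zero_apply, map_zero]
  exact (LinearMap.injective_iff_surjective.mp hT) l

theorem sylvester' [FiniteDimensional F K] [FiniteDimensional F N] (a : Module.End F K) (b : Module.End F N)
    (h : F[X]) (ha : aeval a h = 0) (hb : Function.Injective (aeval b h)) (l : N →ₗ[F] K) :
    ∃ X : N →ₗ[F] K, X.comp b - a.comp X = l := by
  let T : (N →ₗ[F] K) →ₗ[F] (N →ₗ[F] K) :=
    LinearMap.lcomp F K b - LinearMap.llcomp F N K K a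
  have hT : Function.Injective T := by
    rw [← LinearMap.ker_eq_bot, LinearMap.ker_eq_bot']
    intro X hX
    have hc : X.comp b = a.comp X := sub_eq_zero.mp hX
    have hp : ∀ p : F[X], X.comp (aeval b p) = (aeval a p).comp X := by
      intro p
      induction p using Polynomial.induction_on' with
      | add p q hp hq => rw [map_add, map_add, LinearMap.comp_add, LinearMap.add_comp, hp, hq]
      | monomial n c =>
        rw [aeval_monomial, aeval_monomial, ← Algebra.smul_def, ← Algebra.smul_def, LinearMap.comp_smul,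
          LinearMap.smul_comp]
        congr 1
        induction n with
        | zero => rw [pow_zero, pow_zero]; rfl
        | succ n ih =>
          rw [pow_succ, pow_succ, Module.End.mul_eq_comp, Module.End.mul_eq_comp, ← LinearMap.comp_assoc,
            ih, LinearMap.comp_assoc, hc, ← LinearMap.comp_assoc]
    refine LinearMap.ext fun x => ?_
    obtain ⟨y, rfl⟩ := (LinearMap.injective_iff_surjective.mp hb) x
    have := LinearMap.congr_fun (hp h) y
    rw [ha, LinearMap.zero_comp, LinearMap.zero_apply, LinearMap.comp_apply] at this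
    rw [LinearMap.zero_apply]
    exact this
  exact (LinearMap.injective_iff_surjective.mp hT) l

/-- The bordered map. -/
def border (θ : K ≃ₗ[F] K) (v : N →ₗ[F] K) (ψ : K →ₗ[F] N) (S : Module.End F N) : Module.End F (K × N) :=
  (LinearMap.coprod (θ : K →ₗ[F] K) v).prod (LinearMap.coprod ψ S)

theorem border_eq (θ : K ≃ₗ[F] K) (v : N →ₗ[F] K) (ψ : K →ₗ[F] N) (S : Module.End F N) (p : K × N) :
    border θ v ψ S p = lowE (ψ.comp θ.symm.toLinearMap) (θ p.1 + v p.2, S p.2 - ψ (θ.symm (v p.2))) := by
  refine Prod.ext rfl ?_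
  simp [border]
  abel

theorem det_border [FiniteDimensional F K] [FiniteDimensional F N] (θ : K ≃ₗ[F] K) (v : N →ₗ[F] K)
    (ψ : K →ₗ[F] N) (S : Module.End F N) :
    LinearMap.det (border θ v ψ S) =
      LinearMap.det (θ : K →ₗ[F] K) * LinearMap.det (S - (ψ.comp θ.symm.toLinearMap).comp v) := by
  have h : border θ v ψ S = (lowE (ψ.comp θ.symm.toLinearMap) : K × N →ₗ[F] K × N).comp
      ((LinearMap.prodMap (θ : K →ₗ[F] K) (S - (ψ.comp θ.symm.toLinearMap).comp v)).comp
        (upE (θ.symm.toLinearMap.comp v) : K × N →ₗ[F] K × N)) := by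
    refine LinearMap.ext fun p => ?_
    rw [border_eq]
    simp
  rw [h, LinearMap.det_comp, LinearMap.det_comp, ← LinearEquiv.coe_det, ← LinearEquiv.coe_det, det_lowE,
    det_upE, det_prodMap, Units.val_one, one_mul, mul_one]

/-- The main factorisation lemma. -/
theorem fac_border [FiniteDimensional F K] [FiniteDimensional F N] {M : Type*} [AddCommGroup M]
    [Module F M] [FiniteDimensional F M] {α β θ : K ≃ₗ[F] K} (hθ : θ = α * β⁻¹)
    (v : N →ₗ[F] K) (ψ : K →ₗ[F] N) (S : Module.End F N) {A B : M ≃ₗ[F] M}
    (hD : Fac (S - (ψ.comp θ.symm.toLinearMap).comp v) A B) (h : F[X])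
    (hα : aeval (α : Module.End F K) h = 0) (hβ : aeval (β : Module.End F K) h = 0)
    (hA : Function.Injective (aeval (A : Module.End F M) h))
    (hB : Function.Injective (aeval (B : Module.End F M) h)) :
    Fac (border θ v ψ S) (α.prodCongr A) (β.prodCongr B) := by
  obtain ⟨P, Q, hPQ⟩ := hD
  set a := conjE P A with ha
  set b := conjE Q B with hb
  have key : ∀ (R : M ≃ₗ[F] N) (C : M ≃ₗ[F] M), Function.Injective (aeval (C : Module.End F M) h) →
      Function.Injective (aeval (conjE R C : Module.End F N) h) := by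
    intro R C hC
    have e : (conjE R C : Module.End F N) = R.conjAlgEquiv F (C : Module.End F M) := rfl
    rw [e, aeval_algEquiv, AlgHom.coe_comp, Function.comp_apply]
    intro x y hxy
    have h1 : R (aeval (C : Module.End F M) h (R.symm x)) = R (aeval (C : Module.End F M) h (R.symm y)) := hxy
    exact R.symm.injective (hC (R.injective h1))
  have hDeq : ∀ n, S n - ψ (θ.symm (v n)) = a (b.symm n) := fun n => LinearMap.congr_fun hPQ n
  -- lower factor
  obtain ⟨y, hy⟩ := sylvester (α : Module.End F K) (a : Module.End F N) h hα (key P A hA)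
    ((ψ.comp θ.symm.toLinearMap).comp (α : Module.End F K))
  obtain ⟨z, hz⟩ := sylvester' (β : Module.End F K) (b : Module.End F N) h hβ (key Q B hB)
    (-((θ.symm.toLinearMap.comp v).comp (b : Module.End F N)))
  refine ⟨((LinearEquiv.refl F K).prodCongr P).trans (lowE y),
    ((LinearEquiv.refl F K).prodCongr Q).trans (upE z), ?_⟩
  refine LinearMap.ext fun p => ?_
  have hb' : b⁻¹ = b.symm := rfl
  obtain ⟨k, n⟩ := p
  change border θ v ψ S (k, n) =
    conjE (((LinearEquiv.refl F K).prodCongr P).trans (lowE y)) (α.prodCongr A)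
    ((conjE (((LinearEquiv.refl F K).prodCongr Q).trans (upE z)) (β.prodCongr B)).symm (k, n))
  have hsymm : (conjE (((LinearEquiv.refl F K).prodCongr Q).trans (upE z)) (β.prodCongr B)).symm (k, n) =
      (β.symm (k - z n) + z (b.symm n), b.symm n) := by
    rw [LinearEquiv.symm_apply_eq]
    simp only [conjE_apply, LinearEquiv.trans_apply, LinearEquiv.trans_symm, LinearEquiv.prodCongr_symm,
      LinearEquiv.prodCongr_apply, upE_apply, upE_symm_apply, LinearEquiv.refl_apply,
      LinearEquiv.refl_symm, add_sub_cancel_right, LinearEquiv.apply_symm_apply]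
    have e : Q (B (Q.symm (b.symm n))) = n := b.apply_symm_apply n
    rw [e]
    simp
  rw [hsymm]
  simp only [conjE_apply, LinearEquiv.trans_apply, LinearEquiv.trans_symm, LinearEquiv.prodCongr_symm,
    LinearEquiv.prodCongr_apply, lowE_apply, lowE_symm_apply, LinearEquiv.refl_apply,
    LinearEquiv.refl_symm]
  have hk : z n - β (z (b.symm n)) = -θ.symm (v n) := by
    have := LinearMap.congr_fun hz (b.symm n)
    simpa using this
  have e1 : θ k + v n = α (β.symm (k - z n) + z (b.symm n)) := by
    apply θ.symm.injective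
    rw [map_add, LinearEquiv.symm_apply_apply]
    subst hθ
    change k + _ = β (α.symm (α (β.symm (k - z n) + z (b.symm n))))
    rw [LinearEquiv.symm_apply_apply, map_add, LinearEquiv.apply_symm_apply]
    have : (α * β⁻¹).symm (v n) = β (z (b.symm n)) - z n := by
      rw [← neg_sub, hk, neg_neg]
    rw [this]
    abel
  set w := β.symm (k - z n) + z (b.symm n) with hw
  rw [border_eq]
  refine Prod.ext e1 ?_
  have h2 := LinearMap.congr_fun hy w
  simp only [LinearMap.sub_apply, LinearMap.comp_apply, LinearEquiv.coe_coe] at h2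
  simp only [lowE_apply, LinearMap.comp_apply, LinearEquiv.coe_coe]
  change S n - ψ (θ.symm (v n)) + ψ (θ.symm (θ k + v n)) = P (A (P.symm (b.symm n - y w))) + y (α w)
  rw [hDeq, e1, ← h2]
  have ea : ∀ x, P (A (P.symm x)) = a x := fun x => rfl
  rw [ea, map_sub]
  abel

end CfsgLib.FGS.SLComm
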