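import Cfsg.Agent.Lib.FGS.SLComm.Four

/-!
# Tools for two and three element fields
-/

set_option autoImplicit false

namespace CfsgLib.FGS.SLComm

open LinearMap Polynomial

universe u

variable {F : Type u} [Field F]

/-- All instances of the blocks `l` are similar to `G`. -/
def Rep (l : List F[X]) {n : ℕ} (G : Matrix (Fin n) (Fin n) F) : Prop :=
  ∀ (V : Type u) [AddCommGroup V] [Module F V] (g : Module.End F V), Blk l V g →
    ∃ e : V ≃ₗ[F] (Fin n → F), ∀ x, e (g x) = Matrix.toLin' G (e x)

theorem rep_single {f : F[X]} {n : ℕ} {G : Matrix (Fin n) (Fin n) F}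
    (e : AdjoinRoot f ≃ₗ[F] (Fin n → F)) (he : ∀ x, e (rootL f x) = Matrix.toLin' G (e x)) : Rep [f] G := by
  intro V _ _ g hg
  simp only [Blk] at hg
  obtain ⟨V', i1, i2, g', e₁, hs, h⟩ := hg
  haveI := hs
  haveI : Unique V' := uniqueOfSubsingleton 0
  refine ⟨e₁.trans (LinearEquiv.prodUnique.trans e), fun x => ?_⟩
  simp only [LinearEquiv.trans_apply, h]
  exact he _

theorem rep_lin (t : Fˣ) : Rep [lin t] !![(t : F)] := by
  haveI := (good_lin t).finite
  have hfr : Module.finrank F (AdjoinRoot (lin t)) = Module.finrank F (Fin 1 → F) := by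
    rw [lin, (AdjoinRoot.powerBasis (good_lin t).1.ne_zero).finrank, AdjoinRoot.powerBasis_dim,
      natDegree_X_sub_C, Module.finrank_fin_fun]
  refine rep_single (LinearEquiv.ofFinrankEq _ _ hfr) fun x => ?_
  rw [root_lin, map_smul]
  funext i
  fin_cases i
  simp [Matrix.mulVec, dotProduct]

theorem rep_quad {f : F[X]} (hf : Good f) (hd : f.natDegree = 2) :
    Rep [f] !![0, -f.coeff 0; 1, -f.coeff 1] := by
  let b := (AdjoinRoot.powerBasis hf.1.ne_zero).basis.reindex (finCongr (show f.natDegree = 2 from hd))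
  have hb : ∀ i, b i = AdjoinRoot.root f ^ (i : ℕ) := fun i => by simp [b, PowerBasis.coe_basis]; rfl
  refine rep_single b.equivFun fun x => ?_
  have hcomp : b.equivFun.toLinearMap.comp (rootL f) =
      (Matrix.toLin' !![0, -f.coeff 0; 1, -f.coeff 1]).comp b.equivFun.toLinearMap := by
    refine b.ext fun j => ?_
    simp only [LinearMap.comp_apply, LinearEquiv.coe_coe, Module.Basis.equivFun_apply, Module.Basis.repr_self,
      rootL_apply]
    have h2 : AdjoinRoot.root f * AdjoinRoot.root f = (-f.coeff 0) • b 0 + (-f.coeff 1) • b 1 := by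
      rw [hb, hb]
      have hm := AdjoinRoot.mk_self (f := f)
      have he : f = X ^ 2 + C (f.coeff 1) * X + C (f.coeff 0) := by
        conv_lhs => rw [hf.1.as_sum, hd]
        simp [Finset.sum_range_succ]
        ring
      rw [he, map_add, map_add, map_mul, map_pow, AdjoinRoot.mk_X, AdjoinRoot.mk_C, AdjoinRoot.mk_C] at hm
      simp only [Fin.val_zero, pow_zero, Fin.val_one, pow_one, Algebra.smul_def, map_neg,
        AdjoinRoot.algebraMap_eq, mul_one]
      rw [← he] at hm
      linear_combination hm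
    fin_cases j
    · have h1 : AdjoinRoot.root f * b 0 = b 1 := by rw [hb, hb]; simp
      funext i
      simp only [Fin.zero_eta, h1, Module.Basis.repr_self]
      fin_cases i <;> simp [Finsupp.single_apply, Matrix.vecHead, Matrix.vecTail]
    · have h1 : AdjoinRoot.root f * b 1 = AdjoinRoot.root f * AdjoinRoot.root f := by rw [hb]; simp
      funext i
      simp only [Fin.mk_one, h1, h2, map_add, map_smul, Module.Basis.repr_self]
      fin_cases i <;> simp [Finsupp.single_apply, Matrix.vecHead, Matrix.vecTail]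
  exact LinearMap.congr_fun hcomp x

/-- Block diagonal sum of matrices. -/
def bsum {n m : ℕ} (G : Matrix (Fin n) (Fin n) F) (H : Matrix (Fin m) (Fin m) F) :
    Matrix (Fin (n + m)) (Fin (n + m)) F :=
  (Matrix.fromBlocks G 0 0 H).submatrix finSumFinEquiv.symm finSumFinEquiv.symm

theorem Rep.append {l l' : List F[X]} {n m : ℕ} {G : Matrix (Fin n) (Fin n) F}
    {H : Matrix (Fin m) (Fin m) F} (h : Rep l G) (h' : Rep l' H) : Rep (l ++ l') (bsum G H) := by
  intro V _ _ g hg
  obtain ⟨V₁, V₂, a1, a2, b1, b2, g₁, g₂, e, hb1, hb2, he⟩ := Blk.split l l' hg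
  obtain ⟨e₁, he₁⟩ := h V₁ g₁ hb1
  obtain ⟨e₂, he₂⟩ := h' V₂ g₂ hb2
  refine ⟨e.trans ((e₁.prodCongr e₂).trans ((LinearEquiv.sumArrowLequivProdArrow _ _ F F).symm.trans
    (LinearEquiv.funCongrLeft F F finSumFinEquiv.symm))), fun x => ?_⟩
  simp only [LinearEquiv.trans_apply, he, LinearEquiv.prodCongr_apply, LinearMap.prodMap_apply, he₁, he₂]
  set y₁ := e₁ (e x).1
  set y₂ := e₂ (e x).2
  funext i
  rw [Matrix.toLin'_apply, Matrix.toLin'_apply, Matrix.toLin'_apply, bsum]
  change Sum.elim (G.mulVec y₁) (H.mulVec y₂) (finSumFinEquiv.symm i) =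
    ((Matrix.fromBlocks G 0 0 H).submatrix finSumFinEquiv.symm finSumFinEquiv.symm).mulVec
      (Sum.elim y₁ y₂ ∘ finSumFinEquiv.symm) i
  rw [Matrix.submatrix_mulVec_equiv, Equiv.symm_symm, Function.comp_apply, Function.comp_assoc,
    Equiv.symm_comp_self, Function.comp_id, Matrix.fromBlocks_mulVec]
  simp

/-- A witness. -/
theorem commL_witness {l : List F[X]} {n : ℕ} {G : Matrix (Fin n) (Fin n) F} (h : Rep l G)
    (a b : Matrix (Fin n) (Fin n) F) (ha : a.det = 1) (hb : b.det = 1) (hab : a * b = G * b * a) :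
    CommL l := by
  intro V _ _ g hg
  obtain ⟨e, he⟩ := h V g hg
  refine ⟨Module.Finite.equiv e.symm, ?_⟩
  let A := Matrix.toLin'OfInv (M := a⁻¹) (M' := a) (Matrix.nonsing_inv_mul _ (by rw [ha]; exact isUnit_one))
    (Matrix.mul_nonsing_inv _ (by rw [ha]; exact isUnit_one))
  let B := Matrix.toLin'OfInv (M := b⁻¹) (M' := b) (Matrix.nonsing_inv_mul _ (by rw [hb]; exact isUnit_one))
    (Matrix.mul_nonsing_inv _ (by rw [hb]; exact isUnit_one))
  have hA : (A : (Fin n → F) →ₗ[F] Fin n → F) = Matrix.toLin' a := LinearMap.ext fun x => rfl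
  have hB : (B : (Fin n → F) →ₗ[F] Fin n → F) = Matrix.toLin' b := LinearMap.ext fun x => rfl
  have hG : IsComm (Matrix.toLin' G) := by
    refine ⟨A, B, Units.ext ?_, Units.ext ?_, LinearMap.ext fun x => ?_⟩
    · rw [LinearEquiv.coe_det, hA, LinearMap.det_toLin', ha]; rfl
    · rw [LinearEquiv.coe_det, hB, LinearMap.det_toLin', hb]; rfl
    · obtain ⟨y, rfl⟩ := B.surjective x
      obtain ⟨z, rfl⟩ := A.surjective y
      change Matrix.toLin' G (B (A z)) = A (B (A⁻¹ (B⁻¹ (B (A z)))))
      rw [show B⁻¹ (B (A z)) = A z from B.symm_apply_apply _, show A⁻¹ (A z) = z from A.symm_apply_apply _]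
      have h1 : A (B z) = Matrix.toLin' (a * b) z := by rw [Matrix.toLin'_mul, ← hA, ← hB]; rfl
      have h2 : Matrix.toLin' G (B (A z)) = Matrix.toLin' (G * b * a) z := by
        rw [Matrix.toLin'_mul, Matrix.toLin'_mul, ← hA, ← hB]; rfl
      rw [h1, h2, hab]
  exact hG.equiv e.symm fun x => e.injective (by rw [he, LinearEquiv.apply_symm_apply, LinearEquiv.apply_symm_apply])

/-- Pairs and triples give every number of copies at least two. -/
theorem commL_groups {f : F[X]} (h2 : CommL [f, f]) (h3 : CommL [f, f, f]) :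
    ∀ t, 2 ≤ t → CommL (List.replicate t f)
  | 0, h => absurd h (by omega)
  | 1, h => absurd h (by omega)
  | 2, _ => h2
  | 3, _ => h3
  | t + 4, _ => by
    have := h2.append (commL_groups h2 h3 (t + 2) (by omega))
    exact this

theorem aeval_prodCongr {U U' : Type*} [AddCommGroup U] [Module F U] [AddCommGroup U'] [Module F U']
    (a : U ≃ₗ[F] U) (b : U' ≃ₗ[F] U') (p : F[X]) :
    aeval (a.prodCongr b : Module.End F (U × U')) p =
      (aeval (a : Module.End F U) p).prodMap (aeval (b : Module.End F U') p) := by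
  have e : (a.prodCongr b : Module.End F (U × U')) =
      LinearMap.prodMapAlgHom F U U' ((a : Module.End F U), (b : Module.End F U')) := LinearMap.ext fun x => rfl
  rw [e, aeval_algHom_apply, aeval_prod_apply]
  rfl

/-- A block `W` next to a small block `q`. -/
theorem commL_attach [Fintype F] {W q : F[X]} (hW : Good W) (hq : Good q) {M : Type u} [AddCommGroup M]
    [Module F M] [FiniteDimensional F M] (A : M ≃ₗ[F] M)
    (hA : Fac ((LinearMap.mulLeft F (dv W)).prodMap (rootL q)) A A)
    (hz : ∀ s : Fˣ, ∃ z : M ≃ₗ[F] M, Commute z A ∧ LinearEquiv.det z = s) (P : F[X])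
    (hP : aeval (A : Module.End F M) P = 0) {m : ℕ} (hdeg : W.natDegree = m + 1) (D : Alpha F m)
    (hD : LinearEquiv.det D.α * LinearEquiv.det A = 1) (hcop : IsCoprime P D.h) : CommL [W, q] := by
  haveI := hW.finite
  haveI := hq.finite
  have hinj : Function.Injective (aeval (A : Module.End F M) D.h) := by
    obtain ⟨x, y, hxy⟩ := hcop
    intro v w hvw
    have h1 := congrArg (aeval (A : Module.End F M)) hxy
    rw [map_add, map_mul, map_mul, hP, mul_zero, zero_add, map_one] at h1
    calc v = (aeval (A : Module.End F M) y * aeval (A : Module.End F M) D.h) v := by rw [h1]; rfl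
      _ = (aeval (A : Module.End F M) y * aeval (A : Module.End F M) D.h) w := by
        rw [Module.End.mul_apply, Module.End.mul_apply, hvw]
      _ = w := by rw [h1]; rfl
  have h := fac_root D hW.1 hdeg (rootL q) hA hinj hinj
  have hcomm : IsComm ((rootL W).prodMap (rootL q)) := by
    refine isComm_of_fac h (by rw [det_prodCongr, hD]) fun s => ?_
    obtain ⟨z, hzA, hzd⟩ := hz s
    refine ⟨(LinearEquiv.refl F _).prodCongr z, LinearEquiv.ext fun v => Prod.ext rfl ?_, ?_⟩
    · exact LinearEquiv.congr_fun hzA.eq v.2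
    · rw [det_prodCongr, LinearEquiv.det_refl, hzd, one_mul]
  intro V _ _ g hg
  simp only [Blk] at hg
  obtain ⟨V₁, i1, i2, g₁, e₁, ⟨V₂, j1, j2, g₂, e₂, hs, h2⟩, h1⟩ := hg
  haveI := hs
  haveI : Unique V₂ := uniqueOfSubsingleton 0
  let e := e₁.trans ((LinearEquiv.refl F _).prodCongr (e₂.trans LinearEquiv.prodUnique))
  refine ⟨Module.Finite.equiv e.symm, hcomm.equiv e.symm fun x => e.injective ?_⟩
  rw [LinearEquiv.apply_symm_apply]
  obtain ⟨v, rfl⟩ := e.surjective x
  rw [LinearEquiv.symm_apply_apply]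
  simp only [e, LinearEquiv.trans_apply, h1, LinearEquiv.prodCongr_apply, LinearMap.prodMap_apply,
    LinearEquiv.refl_apply, h2]
  rfl

/-- Irreducible polynomials of different degrees are coprime. -/
theorem coprime_of_degree_ne {p r : F[X]} (hp : Irreducible p) (hr : Irreducible r)
    (h : p.natDegree ≠ r.natDegree) : IsCoprime p r :=
  hp.coprime_iff_not_dvd.mpr fun hd =>
    h (natDegree_eq_of_degree_eq (degree_eq_degree_of_associated (hp.associated_of_dvd hr hd)))

/-- The scalar of a product with a linear block. -/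
theorem fac_lin_prod {t : Fˣ} {q : F[X]} (hq : Good q) (hcop : IsCoprime (lin t) q) {M : Type*}
    [AddCommGroup M] [Module F M] {A B : M ≃ₗ[F] M} (h : Fac (rootL (lin t * q)) A B) :
    Fac ((LinearMap.mulLeft F (t : F)).prodMap (rootL q)) A B := by
  obtain ⟨e, he⟩ := exists_merge (good_lin t) hq hcop
  haveI := (good_lin t).finite
  have hfr : Module.finrank F (AdjoinRoot (X - C (t : F))) = Module.finrank F F := by
    rw [(AdjoinRoot.powerBasis (good_lin t).1.ne_zero).finrank, AdjoinRoot.powerBasis_dim, natDegree_X_sub_C,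
      Module.finrank_self]
  refine h.equiv (e.trans ((LinearEquiv.ofFinrankEq _ _ hfr).prodCongr (LinearEquiv.refl F _))) fun x => ?_
  have he' : e (rootL (lin t * q) x) = (rootL (X - C (t : F))).prodMap (rootL q) (e x) := he x
  rw [LinearEquiv.trans_apply, he', LinearEquiv.trans_apply]
  refine Prod.ext ?_ rfl
  simp only [LinearEquiv.prodCongr_apply, LinearMap.prodMap_apply, root_lin, map_smul, LinearMap.mulLeft_apply]
  rfl

end CfsgLib.FGS.SLComm
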