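import Cfsg.Agent.Lib.FGS.SLComm.Blocks
import Cfsg.Agent.Lib.FGS.SLComm.Field

/-!
# Chains along lists of blocks

The measure `π = δ * c` of a chain is multiplicative along composition; a closed chain with `π = 1` is a
commutator.
-/

set_option autoImplicit false

namespace CfsgLib.FGS.SLComm

open LinearMap Polynomial

universe u

variable {F : Type u} [Field F]

/-- The determinant of a block as a unit. -/
noncomputable def dU (f : F[X]) : Fˣ :=
  letI := Classical.dec (dv f = 0)
  if h : dv f = 0 then 1 else Units.mk0 (dv f) h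

theorem Good.coe_dU {f : F[X]} (h : Good f) : (dU f : F) = dv f := by
  rw [dU, dif_neg h.dv_ne_zero, Units.val_mk0]

theorem dv_mul {a b : F[X]} (ha : Good a) (hb : Good b) : dv (a * b) = dv a * dv b := by
  rw [dv, dv, dv, natDegree_mul ha.1.ne_zero hb.1.ne_zero, mul_coeff_zero, pow_add]
  ring

theorem dU_mul {a b : F[X]} (ha : Good a) (hb : Good b) : dU (a * b) = dU a * dU b := by
  apply Units.ext
  rw [Units.val_mul, (ha.mul hb).coe_dU, ha.coe_dU, hb.coe_dU, dv_mul ha hb]

theorem good_lin (t : Fˣ) : Good (X - C (t : F)) :=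
  ⟨monic_X_sub_C _, by rw [natDegree_X_sub_C]; exact one_pos, by simp⟩

@[simp] theorem dU_lin (t : Fˣ) : dU (X - C (t : F)) = t := by
  apply Units.ext
  rw [(good_lin t).coe_dU, dv, natDegree_X_sub_C]
  simp

theorem root_lin (t : F) (x : AdjoinRoot (X - C t)) : rootL (X - C t) x = t • x := by
  rw [rootL_apply, Algebra.smul_def, AdjoinRoot.algebraMap_eq]
  congr 1
  rw [← AdjoinRoot.mk_X, ← AdjoinRoot.mk_C, AdjoinRoot.mk_eq_mk]

/-- Every instance of the blocks `l` is a commutator. -/
def CommL (l : List F[X]) : Prop :=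
  ∀ (V : Type u) [AddCommGroup V] [Module F V] (g : Module.End F V), Blk l V g →
    FiniteDimensional F V ∧ IsComm g

/-- Every instance of the blocks `l` is a chain of measure `p`. -/
def ChainL (l : List F[X]) (c c' p : Fˣ) : Prop :=
  ∀ (V : Type u) [AddCommGroup V] [Module F V] (g : Module.End F V), Blk l V g → Chain g c c' (p * c⁻¹)

theorem finite_of_chain {V : Type u} [AddCommGroup V] [Module F V] {g : Module.End F V} {c c' d : Fˣ}
    (h : Chain g c c' d) : FiniteDimensional F V := by
  obtain ⟨r, A, _, P, _, _⟩ := h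
  exact Module.Finite.equiv P

theorem ChainL.comm {l : List F[X]} {c : Fˣ} (h : ChainL l c c 1) : CommL l := by
  intro V _ _ g hg
  have hc := h V g hg
  haveI := finite_of_chain hc
  exact ⟨inferInstance, hc.isComm (by simp)⟩

theorem commL_nil : CommL ([] : List F[X]) := by
  intro V _ _ g hg
  simp only [Blk] at hg
  haveI := hg
  exact ⟨Module.Finite.of_finite, isComm_of_subsingleton g⟩

theorem CommL.append {l₁ l₂ : List F[X]} (h₁ : CommL l₁) (h₂ : CommL l₂) : CommL (l₁ ++ l₂) := by
  intro V _ _ g hg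
  obtain ⟨V₁, V₂, a1, a2, b1, b2, g₁, g₂, e, hb1, hb2, he⟩ := Blk.split l₁ l₂ hg
  obtain ⟨f1, c1⟩ := h₁ V₁ g₁ hb1
  obtain ⟨f2, c2⟩ := h₂ V₂ g₂ hb2
  refine ⟨Module.Finite.equiv e.symm, (c1.prod c2).equiv e.symm fun x => e.injective ?_⟩
  rw [he, LinearEquiv.apply_symm_apply, LinearEquiv.apply_symm_apply]

theorem CommL.perm {l l' : List F[X]} (h : CommL l) (p : l'.Perm l) : CommL l' :=
  fun V _ _ g hg => h V g (hg.perm p)

theorem CommL.merge {a b : F[X]} {l : List F[X]} (ha : Good a) (hb : Good b) (hab : IsCoprime a b)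
    (h : CommL ((a * b) :: l)) : CommL (a :: b :: l) :=
  fun V _ _ g hg => h V g (hg.merge ha hb hab)

theorem CommL.cons {f : F[X]} {l : List F[X]} (h₁ : CommL [f]) (h₂ : CommL l) : CommL (f :: l) :=
  h₁.append h₂

theorem CommL.replicate {l : List F[X]} (h : CommL l) : ∀ t : ℕ, CommL (List.replicate t l).flatten
  | 0 => commL_nil
  | t + 1 => by
    rw [List.replicate_succ, List.flatten_cons]
    exact h.append (CommL.replicate h t)

theorem ChainL.perm {l l' : List F[X]} {c c' p : Fˣ} (h : ChainL l c c' p) (pl : l'.Perm l) :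
    ChainL l' c c' p :=
  fun V _ _ g hg => h V g (hg.perm pl)

theorem ChainL.append {l₁ l₂ : List F[X]} {c x c' p q : Fˣ} (h₁ : ChainL l₁ c x p) (h₂ : ChainL l₂ x c' q) :
    ChainL (l₁ ++ l₂) c c' (p * q) := by
  intro V _ _ g hg
  obtain ⟨V₁, V₂, a1, a2, b1, b2, g₁, g₂, e, hb1, hb2, he⟩ := Blk.split l₁ l₂ hg
  have h := ((h₁ V₁ g₁ hb1).comp (h₂ V₂ g₂ hb2)).equiv e.symm (g' := g) fun y => e.injective (by
    rw [he, LinearEquiv.apply_symm_apply, LinearEquiv.apply_symm_apply])
  rwa [show p * c⁻¹ * (q * x⁻¹) * x = p * q * c⁻¹ by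
    rw [mul_assoc (p * c⁻¹), inv_mul_cancel_right, mul_right_comm]] at h

theorem chainL_single {f : F[X]} {c c' d : Fˣ} (h : Chain (rootL f) c c' d) : ChainL [f] c c' (d * c) := by
  intro V _ _ g hg
  simp only [Blk] at hg
  obtain ⟨V', i1, i2, g', e, hs, he⟩ := hg
  rw [mul_inv_cancel_right]
  haveI := hs
  haveI : Unique V' := uniqueOfSubsingleton 0
  exact h.equiv (LinearEquiv.prodUnique.symm.trans e.symm) fun x => e.injective (by
    rw [LinearEquiv.trans_apply, LinearEquiv.trans_apply, he, LinearEquiv.apply_symm_apply,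
      LinearEquiv.apply_symm_apply]
    exact Prod.ext rfl (Subsingleton.elim _ _))

/-- Degree one. -/
theorem step_lin (t c : Fˣ) : ChainL [X - C (t : F)] c (c / t) c := by
  have h := chain_root (alphaZero F) (m := 0) (monic_X_sub_C (t : F)) (natDegree_X_sub_C _) (c := c)
    (c' := c / t) (by
      rw [dv, natDegree_X_sub_C, Units.val_div_eq_div_val, div_div_cancel₀ c.ne_zero]
      simp) (by simp) (by simp)
  rw [alphaZero_det] at h
  simpa using chainL_single h

/-- Degree two. -/
theorem step_two {f : F[X]} (hf : Good f) (hd : f.natDegree = 2) {c e : Fˣ} (he : e ≠ c)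
    (he' : e ≠ c / dU f) : ChainL [f] c (c / dU f) (e * c) := by
  have h := chain_root (alphaOne e) hf.1 hd (c := c) (c' := c / dU f) (by
      rw [Units.val_div_eq_div_val, div_div_cancel₀ c.ne_zero, hf.coe_dU]) (by
      rw [alphaOne_eval, sub_ne_zero]; exact fun h => he (Units.ext h.symm)) (by
      rw [alphaOne_eval, sub_ne_zero]; exact fun h => he' (Units.ext h.symm))
  rw [alphaOne_det] at h
  exact chainL_single h

/-- `α` of every determinant without eigenvalues. -/
theorem exists_alpha_any [Fintype F] {m : ℕ} (hm : 2 ≤ m) (δ : Fˣ) :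
    ∃ D : Alpha F m, LinearEquiv.det D.α = δ ∧ (∀ c : F, D.h.eval c ≠ 0) ∧
      (2 < m → Irreducible D.h ∧ D.h.natDegree = m) := by
  by_cases hex : m = 2 ∧ Nat.card F = 3 ∧ δ = 1
  · obtain ⟨rfl, h3, rfl⟩ := hex
    obtain ⟨D, hd, hr⟩ := exists_alpha_three h3
    exact ⟨D, hd, hr, fun h => absurd h (by omega)⟩
  · have hδ : m = 2 → Nat.card F = 3 → δ = -1 := by
      intro h2 h3
      have h1 : δ ≠ 1 := fun h => hex ⟨h2, h3, h⟩
      have h4 : δ ^ 2 = 1 := by
        have h5 : δ ^ Nat.card Fˣ = 1 := pow_card_eq_one'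
        rwa [Nat.card_units, h3] at h5
      rcases sq_eq_one_iff.mp (congrArg Units.val h4 : (δ : F) ^ 2 = 1) with h | h
      · exact absurd (Units.ext h) h1
      · exact Units.ext h
    obtain ⟨D, hd, hi, hn⟩ := exists_alpha hm δ hδ
    exact ⟨D, hd, fun c => eval_ne_zero_of_irreducible hi (by omega) c, fun _ => ⟨hi, hn⟩⟩

/-- Degree at least three: the measure is free. -/
theorem step_big [Fintype F] {f : F[X]} (hf : Good f) (hd : 3 ≤ f.natDegree) (c p : Fˣ) :
    ChainL [f] c (c / dU f) p := by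
  obtain ⟨D, hD, hr, _⟩ := exists_alpha_any (m := f.natDegree - 1) (by omega) (p * c⁻¹)
  have h := chain_root D hf.1 (by omega) (c := c) (c' := c / dU f) (by
      rw [Units.val_div_eq_div_val, div_div_cancel₀ c.ne_zero, hf.coe_dU]) (hr _) (hr _)
  rw [hD] at h
  have := chainL_single h
  rwa [inv_mul_cancel_right] at this

theorem dU_prod_eq_one {l : List F[X]} (hg : ∀ f ∈ l, Good f) (h : (l.map dv).prod = 1) :
    (l.map dU).prod = 1 := by
  apply Units.ext
  rw [← Units.coeHom_apply, map_list_prod, List.map_map, Units.val_one, ← h]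
  refine congrArg List.prod (List.map_congr_left fun f hf => ?_)
  simp [(hg f hf).coe_dU]

/-- A large block and a list with chains. -/
theorem commL_big [Fintype F] {W : F[X]} {l : List F[X]} (hW : Good W) (hd : 3 ≤ W.natDegree)
    (hl : l = [] ∨ ∀ c, ∃ p, ChainL l c (c / (l.map dU).prod) p)
    (hprod : ((W :: l).map dU).prod = 1) : CommL (W :: l) := by
  rw [List.map_cons, List.prod_cons] at hprod
  rcases hl with rfl | hl
  · have h := step_big hW hd 1 1
    rw [List.map_nil, List.prod_nil, mul_one] at hprod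
    rw [hprod, div_one] at h
    exact h.comm
  · obtain ⟨p, hp⟩ := hl (1 / dU W)
    have h := (step_big hW hd 1 p⁻¹).append hp
    rw [inv_mul_cancel, div_div, hprod, div_one] at h
    exact h.comm

end CfsgLib.FGS.SLComm
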