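import Cfsg.Agent.Lib.FGS.SLComm.Two

/-!
# Three elements
-/

set_option autoImplicit false

namespace CfsgLib.FGS.SLComm

open LinearMap Polynomial

instance factPrimeThree' : Fact (Nat.Prime 3) := ⟨Nat.prime_three⟩

theorem units_zmod_three (t : (ZMod 3)ˣ) : t = 1 ∨ t = -1 := by
  revert t
  decide

/-- A monic quadratic over three elements. -/
noncomputable abbrev quad3 (a b : ZMod 3) : (ZMod 3)[X] := X ^ 2 + C b * X + C a

theorem quad3_natDegree (a b : ZMod 3) : (quad3 a b).natDegree = 2 := by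
  unfold quad3; compute_degree!

theorem quad3_good (a b : ZMod 3) (ha : a ≠ 0) : Good (quad3 a b) := by
  refine good_quad ?_ (quad3_natDegree a b) ?_
  · unfold quad3; monicity!
  · simpa [quad3] using ha

theorem quad3_coeff0 (a b : ZMod 3) : (quad3 a b).coeff 0 = a := by simp [quad3]

theorem quad3_coeff1 (a b : ZMod 3) : (quad3 a b).coeff 1 = b := by simp [quad3, coeff_C]

theorem quad3_dU (u : (ZMod 3)ˣ) (b : ZMod 3) : dU (quad3 (u : ZMod 3) b) = u := by
  apply Units.ext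
  rw [(quad3_good _ b u.ne_zero).coe_dU, dv, quad3_natDegree, quad3_coeff0]
  ring

theorem quad3_rep (a b : ZMod 3) (ha : a ≠ 0) : Rep [quad3 a b] !![(0 : ZMod 3), -a; 1, -b] := by
  have h := rep_quad (quad3_good a b ha) (quad3_natDegree a b)
  rwa [quad3_coeff0, quad3_coeff1] at h

/-- The quadratic prime powers over three elements. -/
theorem quad_three {f : (ZMod 3)[X]} (hf : PP f) (hd : f.natDegree = 2) :
    f = quad3 1 0 ∨ f = quad3 2 1 ∨ f = quad3 2 2 ∨ f = quad3 1 1 ∨ f = quad3 1 2 := by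
  have he : f = quad3 (f.coeff 0) (f.coeff 1) := by
    conv_lhs => rw [hf.1.1.as_sum, hd]
    simp [Finset.sum_range_succ, quad3]
    ring
  have key : ∀ a b : ZMod 3, a ≠ 0 → (a = 1 ∧ b = 0) ∨ (a = 2 ∧ b = 1) ∨ (a = 2 ∧ b = 2) ∨ (a = 1 ∧ b = 1) ∨
      (a = 1 ∧ b = 2) ∨ (a = 2 ∧ b = 0) := by decide
  rcases key (f.coeff 0) (f.coeff 1) hf.1.2.2 with ⟨h, h'⟩ | ⟨h, h'⟩ | ⟨h, h'⟩ | ⟨h, h'⟩ | ⟨h, h'⟩ | ⟨h, h'⟩ <;>
    rw [h, h'] at he
  · exact Or.inl he
  · exact Or.inr (Or.inl he)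
  · exact Or.inr (Or.inr (Or.inl he))
  · exact Or.inr (Or.inr (Or.inr (Or.inl he)))
  · exact Or.inr (Or.inr (Or.inr (Or.inr he)))
  · -- two different roots
    exfalso
    obtain ⟨_, p, k, hp, hpm, hpe⟩ := hf
    have h1 : (p ^ k).eval 1 = 0 := by rw [← hpe, he]; simp [quad3]; decide
    have h2 : (p ^ k).eval 2 = 0 := by rw [← hpe, he]; simp [quad3]; decide
    rw [eval_pow] at h1 h2
    have r1 := eq_zero_of_pow_eq_zero h1
    have r2 := eq_zero_of_pow_eq_zero h2
    have e1 := eq_of_monic_of_associated (monic_X_sub_C (1 : ZMod 3)) hpm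
      ((irreducible_X_sub_C _).associated_of_dvd hp (dvd_iff_isRoot.mpr r1))
    rw [← e1] at r2
    simp only [eval_sub, eval_X, eval_C] at r2
    revert r2
    decide

theorem coprime_lin_quad {t : (ZMod 3)ˣ} {a b : ZMod 3} (h : (t : ZMod 3) ^ 2 + b * (t : ZMod 3) + a ≠ 0) :
    IsCoprime (lin t) (quad3 a b) :=
  (irreducible_X_sub_C _).coprime_iff_not_dvd.mpr fun hd => h (by
    have := dvd_iff_isRoot.mp hd
    simpa [quad3, IsRoot] using this)

theorem coprime_pp_quad {a b : (ZMod 3)[X]} (ha : PP a) (hb : PP b) (hd : a.natDegree = b.natDegree) (hne : a ≠ b) :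
    IsCoprime a b := by
  rcases ha.coprime_or_same hb with h | ⟨p, i, j, hp, _, he, he'⟩
  · exact h
  · exfalso
    refine hne ?_
    rw [he, he', natDegree_pow, natDegree_pow] at hd
    rw [he, he', Nat.eq_of_mul_eq_mul_right hp.natDegree_pos hd]

theorem commL_quadQ : CommL [quad3 1 0] :=
  commL_witness_lu (quad3_rep 1 0 (by decide)) !![1, 0; 2, 1] !![1, 2; 0, 1] !![1, 0; 0, 1] !![2, 1; 0, 2]
    (by decide) (by decide) (by decide) (by decide) (by decide) (by decide) (by decide)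

theorem commL_bad11 : CommL [quad3 2 1, quad3 2 1] :=
  commL_witness_lu ((quad3_rep 2 1 (by decide)).append (quad3_rep 2 1 (by decide)))
    !![1, 0, 0, 0; 0, 1, 0, 0; 0, 0, 1, 0; 2, 0, 2, 1] !![2, 1, 1, 1; 0, 2, 0, 0; 0, 0, 2, 1; 0, 0, 0, 2]
    !![1, 0, 0, 0; 2, 1, 0, 0; 1, 1, 1, 0; 2, 1, 2, 1] !![2, 0, 0, 0; 0, 1, 1, 0; 0, 0, 1, 2; 0, 0, 0, 2]
    (by decide) (by decide) (by decide) (by decide) (by decide) (by decide) (by decide)

theorem commL_bad22 : CommL [quad3 2 2, quad3 2 2] :=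
  commL_witness_lu ((quad3_rep 2 2 (by decide)).append (quad3_rep 2 2 (by decide)))
    !![1, 0, 0, 0; 0, 1, 0, 0; 2, 1, 1, 0; 2, 1, 0, 1] !![2, 1, 0, 1; 0, 1, 1, 1; 0, 0, 2, 1; 0, 0, 0, 1]
    !![1, 0, 0, 0; 1, 1, 0, 0; 0, 2, 1, 0; 1, 2, 2, 1] !![2, 2, 1, 0; 0, 1, 0, 0; 0, 0, 1, 2; 0, 0, 0, 2]
    (by decide) (by decide) (by decide) (by decide) (by decide) (by decide) (by decide)

theorem commL_jp_one : CommL [quad3 1 1, lin 1] :=
  commL_witness_lu ((quad3_rep 1 1 (by decide)).append (rep_lin 1))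
    !![1, 0, 0; 1, 1, 0; 1, 1, 1] !![2, 1, 0; 0, 2, 0; 0, 0, 1]
    !![1, 0, 0; 0, 1, 0; 0, 1, 1] !![1, 2, 0; 0, 2, 0; 0, 0, 2]
    (by decide) (by decide) (by decide) (by decide) (by decide) (by decide) (by decide)

theorem commL_jp2 : CommL [quad3 1 1, quad3 1 1] :=
  commL_witness_lu ((quad3_rep 1 1 (by decide)).append (quad3_rep 1 1 (by decide)))
    !![1, 0, 0, 0; 1, 1, 0, 0; 0, 2, 1, 0; 0, 1, 0, 1] !![1, 2, 1, 0; 0, 1, 1, 0; 0, 0, 2, 0; 0, 0, 0, 2]
    !![1, 0, 0, 0; 1, 1, 0, 0; 0, 0, 1, 0; 2, 1, 0, 1] !![1, 0, 1, 1; 0, 2, 0, 0; 0, 0, 2, 1; 0, 0, 0, 1]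
    (by decide) (by decide) (by decide) (by decide) (by decide) (by decide) (by decide)

theorem commL_jp3 : CommL [quad3 1 1, quad3 1 1, quad3 1 1] :=
  commL_witness_lu ((quad3_rep 1 1 (by decide)).append ((quad3_rep 1 1 (by decide)).append (quad3_rep 1 1 (by decide))))
    !![1, 0, 0, 0, 0, 0; 0, 1, 0, 0, 0, 0; 1, 1, 1, 0, 0, 0; 2, 2, 1, 1, 0, 0; 2, 2, 1, 0, 1, 0; 1, 1, 0, 2, 1, 1]
    !![1, 0, 1, 2, 1, 2; 0, 1, 2, 0, 0, 1; 0, 0, 2, 1, 1, 2; 0, 0, 0, 2, 1, 2; 0, 0, 0, 0, 2, 1; 0, 0, 0, 0, 0, 2]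
    !![1, 0, 0, 0, 0, 0; 2, 1, 0, 0, 0, 0; 2, 1, 1, 0, 0, 0; 1, 2, 1, 1, 0, 0; 1, 2, 0, 0, 1, 0; 2, 2, 1, 1, 0, 1]
    !![2, 1, 0, 2, 0, 2; 0, 2, 1, 1, 0, 0; 0, 0, 2, 1, 1, 1; 0, 0, 0, 2, 1, 1; 0, 0, 0, 0, 2, 1; 0, 0, 0, 0, 0, 2]
    (by decide) (by decide) (by decide) (by decide) (by decide) (by decide) (by decide)

theorem commL_jm2 : CommL [quad3 1 2, quad3 1 2] :=
  commL_witness_lu ((quad3_rep 1 2 (by decide)).append (quad3_rep 1 2 (by decide)))
    !![1, 0, 0, 0; 1, 1, 0, 0; 2, 1, 1, 0; 0, 0, 0, 1] !![1, 2, 1, 1; 0, 1, 1, 2; 0, 0, 1, 0; 0, 0, 0, 1]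
    !![1, 0, 0, 0; 1, 1, 0, 0; 0, 1, 1, 0; 0, 1, 0, 1] !![1, 1, 1, 1; 0, 2, 0, 2; 0, 0, 1, 0; 0, 0, 0, 2]
    (by decide) (by decide) (by decide) (by decide) (by decide) (by decide) (by decide)

theorem commL_jm3 : CommL [quad3 1 2, quad3 1 2, quad3 1 2] :=
  commL_witness_lu ((quad3_rep 1 2 (by decide)).append ((quad3_rep 1 2 (by decide)).append (quad3_rep 1 2 (by decide))))
    !![1, 0, 0, 0, 0, 0; 2, 1, 0, 0, 0, 0; 0, 1, 1, 0, 0, 0; 2, 2, 2, 1, 0, 0; 0, 2, 2, 0, 1, 0; 1, 0, 2, 1, 0, 1]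
    !![1, 2, 0, 2, 1, 1; 0, 2, 2, 1, 1, 2; 0, 0, 1, 1, 2, 0; 0, 0, 0, 1, 2, 0; 0, 0, 0, 0, 2, 2; 0, 0, 0, 0, 0, 1]
    !![1, 0, 0, 0, 0, 0; 2, 1, 0, 0, 0, 0; 0, 1, 1, 0, 0, 0; 0, 0, 0, 1, 0, 0; 0, 0, 1, 2, 1, 0; 1, 2, 1, 1, 2, 1]
    !![2, 0, 0, 2, 2, 0; 0, 2, 2, 0, 0, 2; 0, 0, 1, 1, 2, 1; 0, 0, 0, 2, 1, 2; 0, 0, 0, 0, 1, 0; 0, 0, 0, 0, 0, 2]
    (by decide) (by decide) (by decide) (by decide) (by decide) (by decide) (by decide)

theorem commL_jm_neg : CommL [quad3 1 2, lin (-1), lin (-1)] :=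
  commL_witness_lu ((quad3_rep 1 2 (by decide)).append ((rep_lin (-1)).append (rep_lin (-1))))
    !![1, 0, 0, 0; 0, 1, 0, 0; 2, 1, 1, 0; 2, 2, 0, 1] !![2, 0, 1, 2; 0, 1, 2, 1; 0, 0, 2, 2; 0, 0, 0, 1]
    !![1, 0, 0, 0; 2, 1, 0, 0; 0, 2, 1, 0; 1, 0, 0, 1] !![2, 1, 0, 1; 0, 2, 1, 2; 0, 0, 1, 0; 0, 0, 0, 1]
    (by decide) (by decide) (by decide) (by decide) (by decide) (by decide) (by decide)

/-- A block with a chain from every start. -/
def Steppable (x : (ZMod 3)[X]) : Prop :=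
  Good x ∧ (x.natDegree = 1 ∨ 3 ≤ x.natDegree ∨ (x.natDegree = 2 ∧ dU x = 1))

theorem Steppable.chain {x : (ZMod 3)[X]} (h : Steppable x) (c : (ZMod 3)ˣ) :
    ∃ p, ChainL [x] c (c / dU x) p := by
  obtain ⟨hg, h1 | h3 | ⟨h2, hd⟩⟩ := h
  · obtain ⟨t, rfl⟩ := exists_lin hg h1
    rw [dU_lin']
    exact ⟨c, step_lin t c⟩
  · exact ⟨1, step_big hg h3 c 1⟩
  · have hne : -c ≠ c := by revert c; decide
    exact ⟨_, step_two hg h2 (e := -c) hne (by rwa [hd, div_one])⟩

theorem chainL_steppable : ∀ l : List (ZMod 3)[X], l ≠ [] → (∀ f ∈ l, Steppable f) → ∀ c,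
    ∃ p, ChainL l c (c / (l.map dU).prod) p
  | [], h, _, _ => absurd rfl h
  | [x], _, hg, c => by
    obtain ⟨p, hp⟩ := (hg x (by simp)).chain c
    exact ⟨p, by simpa using hp⟩
  | x :: y :: r, _, hg, c => by
    obtain ⟨p, hp⟩ := (hg x (by simp)).chain c
    obtain ⟨q, hq⟩ := chainL_steppable (y :: r) (by simp) (fun f hf => hg f (List.mem_cons_of_mem _ hf)) (c / dU x)
    rw [div_div, ← List.prod_cons, ← List.map_cons] at hq
    exact ⟨p * q, hp.append hq⟩

/-- A large block with steppable blocks. -/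
theorem commL_big_three {W : (ZMod 3)[X]} {r : List (ZMod 3)[X]} (hW : Good W) (hd : 3 ≤ W.natDegree)
    (hr : ∀ f ∈ r, Steppable f) (hprod : ((W :: r).map dU).prod = 1) : CommL (W :: r) := by
  refine commL_big hW hd ?_ hprod
  rcases eq_or_ne r [] with h | h
  · exact Or.inl h
  · exact Or.inr (chainL_steppable r h hr)

/-- A bad quadratic next to a large block of determinant `-1`. -/
theorem commL_bad_big {W : (ZMod 3)[X]} (hW : Good W) (hd : 4 ≤ W.natDegree) (hWd : dU W = -1) {b : ZMod 3}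
    (hb : b ≠ 0) : CommL [W, quad3 2 b] := by
  have hp := quad3_good 2 b (by decide)
  have key : ∀ b : ZMod 3, b ≠ 0 → ((-1 : (ZMod 3)ˣ) : ZMod 3) ^ 2 + b * ((-1 : (ZMod 3)ˣ) : ZMod 3) + 2 ≠ 0 := by
    decide
  have hcop := coprime_lin_quad (key b hb)
  have hcub : (lin (-1 : (ZMod 3)ˣ) * quad3 2 b).natDegree = 2 + 1 := by
    rw [natDegree_mul (good_lin _).1.ne_zero hp.1.ne_zero, quad3_natDegree, natDegree_X_sub_C]
  have hcd : dU (lin (-1 : (ZMod 3)ˣ) * quad3 2 b) = 1 := by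
    have h2 : quad3 2 b = quad3 ((-1 : (ZMod 3)ˣ) : ZMod 3) b := by
      rw [show ((-1 : (ZMod 3)ˣ) : ZMod 3) = 2 by decide]
    rw [dU_mul (good_lin _) hp, dU_lin', h2, quad3_dU, neg_mul_neg, one_mul]
  obtain ⟨D2, hD2, hi2, hn2⟩ := exists_alpha (F := ZMod 3) (m := 2) le_rfl (-1) (fun _ _ => rfl)
  obtain ⟨D, hD, hi, hn⟩ := exists_alpha (F := ZMod 3) (m := W.natDegree - 1) (by omega) (-1)
    (fun _ _ => rfl)
  have hev : ∀ c : ZMod 3, D2.h.eval c ≠ 0 := fun c => eval_ne_zero_of_irreducible hi2 (by omega) c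
  have hfac := fac_root_one D2 ((good_lin (-1 : (ZMod 3)ˣ)).mul hp).1 hcub (c := 1) (c' := 1)
    (by rw [← ((good_lin (-1 : (ZMod 3)ˣ)).mul hp).coe_dU, hcd]; simp) (hev _) (hev _)
  have hfac' := fac_lin_prod hp hcop hfac
  rw [← hWd, hW.coe_dU] at hfac'
  refine commL_attach hW hp (D2.α.prodCongr (smulE 1)) hfac' ?_ (D2.h * (X - C 1)) ?_
    (m := W.natDegree - 1) (by omega) D ?_ ?_
  · intro s
    refine ⟨(LinearEquiv.refl _ _).prodCongr (smulE s), LinearEquiv.ext fun v => ?_, ?_⟩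
    · simp
    · rw [det_prodCongr, LinearEquiv.det_refl, det_smulE, one_mul]
  · rw [aeval_prodCongr, map_mul, D2.kills, zero_mul, aeval_smulE]
    refine LinearMap.ext fun v => Prod.ext rfl ?_
    simp
  · rw [hD, det_prodCongr, hD2, det_smulE, mul_one, neg_mul_neg, one_mul]
  · refine IsCoprime.mul_left (coprime_of_degree_ne hi2 hi (by omega)) ?_
    refine coprime_of_degree_ne (irreducible_X_sub_C _) hi ?_
    rw [natDegree_X_sub_C]; omega

/-- Blocks of determinant `-1`. -/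
def NegBlock (x : (ZMod 3)[X]) : Prop :=
  dU x = -1 ∧ ((Steppable x ∧ (x.natDegree = 1 ∨ 4 ≤ x.natDegree ∨ PP x)) ∨ x = quad3 2 1 ∨ x = quad3 2 2)

theorem pp_neg {x : (ZMod 3)[X]} (hx : PP x) (hd : dU x ≠ 1) : NegBlock x := by
  have h1 : dU x = -1 := (units_zmod_three _).resolve_left hd
  refine ⟨h1, ?_⟩
  rcases (show x.natDegree = 1 ∨ x.natDegree = 2 ∨ 3 ≤ x.natDegree by have := hx.1.2.1; omega) with h | h | h
  · exact Or.inl ⟨⟨hx.1, Or.inl h⟩, Or.inl h⟩
  · right
    have hone : ∀ b, dU (quad3 1 b) = 1 := fun b => by simpa using quad3_dU 1 b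
    rcases quad_three hx h with rfl | rfl | rfl | rfl | rfl
    · exact absurd (hone 0) hd
    · exact Or.inl rfl
    · exact Or.inr rfl
    · exact absurd (hone 1) hd
    · exact absurd (hone 2) hd
  · exact Or.inl ⟨⟨hx.1, Or.inr (Or.inl h)⟩, Or.inr (Or.inr hx)⟩

theorem pp_bad (b : ZMod 3) (hb : b ≠ 0) : PP (quad3 2 b) := by
  refine ⟨quad3_good 2 b (by decide), quad3 2 b, 1, ?_, (quad3_good 2 b (by decide)).1, (pow_one _).symm⟩
  have key : ∀ b x : ZMod 3, b ≠ 0 → x ^ 2 + b * x + 2 ≠ 0 := by decide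
  refine irreducible_of_degree_le_three_of_not_isRoot ?_ fun x hx => key b x hb (by simpa [quad3, IsRoot] using hx)
  rw [quad3_natDegree]; decide

theorem commL_neg_bad {x : (ZMod 3)[X]} (hx : Steppable x) (hd : dU x = -1)
    (hx' : x.natDegree = 1 ∨ 4 ≤ x.natDegree ∨ PP x) {b : ZMod 3} (hb : b ≠ 0) : CommL [x, quad3 2 b] := by
  have hp := quad3_good 2 b (by decide)
  have hpd : dU (quad3 2 b) = -1 := by
    simpa [show ((-1 : (ZMod 3)ˣ) : ZMod 3) = 2 by decide] using quad3_dU (-1) b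
  have hlin : x.natDegree = 1 → CommL [x, quad3 2 b] := by
    intro h
    obtain ⟨t, rfl⟩ := exists_lin hx.1 h
    rw [dU_lin'] at hd
    have key : ∀ b : ZMod 3, b ≠ 0 → ((-1 : (ZMod 3)ˣ) : ZMod 3) ^ 2 + b * ((-1 : (ZMod 3)ˣ) : ZMod 3) + 2 ≠ 0 := by
      decide
    refine CommL.merge hx.1 hp (coprime_lin_quad (by rw [hd]; exact key b hb))
      (commL_big_three (hx.1.mul hp) ?_ (by simp) ?_)
    · rw [natDegree_mul hx.1.1.ne_zero hp.1.ne_zero, quad3_natDegree, h]
    · rw [List.map_singleton, List.prod_singleton, dU_mul hx.1 hp, hpd, dU_lin', hd, neg_mul_neg, one_mul]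
  rcases hx' with h | h | h
  · exact hlin h
  · exact commL_bad_big hx.1 h hd hb
  · rcases Nat.lt_or_ge x.natDegree 4 with h4 | h4
    · rcases (show x.natDegree = 1 ∨ x.natDegree = 2 ∨ x.natDegree = 3 by have := hx.1.2.1; omega) with h1 | h2 | h3
      · exact hlin h1
      · rcases hx.2 with h' | h' | ⟨_, h'⟩
        · omega
        · omega
        · rw [h'] at hd; exact absurd hd (by decide)
      · refine CommL.merge hx.1 hp ?_ (commL_big_three (hx.1.mul hp) ?_ (by simp) ?_)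
        · rcases h.coprime_or_same (pp_bad b hb) with hc | ⟨p, i, j, hp', hpm, he, he'⟩
          · exact hc
          · exfalso
            have e3 : 3 = i * p.natDegree := by rw [← natDegree_pow, ← he, h3]
            have e2 : 2 = j * p.natDegree := by rw [← natDegree_pow, ← he', quad3_natDegree]
            have h32 : p.natDegree ∣ 1 := by
              have := Nat.dvd_sub (Dvd.intro_left i e3.symm) (Dvd.intro_left j e2.symm)
              simpa using this
            have hp1 := Nat.dvd_one.mp h32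
            obtain ⟨_, r, k, hr, hrm, hre⟩ := pp_bad b hb
            obtain ⟨t, ht⟩ : ∃ t : ZMod 3, p.eval t = 0 := ⟨-p.coeff 0, by
              rw [hpm.eq_X_add_C hp1]; simp⟩
            have key : ∀ b x : ZMod 3, b ≠ 0 → x ^ 2 + b * x + 2 ≠ 0 := by decide
            refine key b t hb ?_
            have hev : (quad3 2 b).eval t = 0 := by
              rw [he', eval_pow, ht, zero_pow]
              intro h0; rw [h0] at e2; omega
            simpa [quad3] using hev
        · rw [natDegree_mul hx.1.1.ne_zero hp.1.ne_zero, quad3_natDegree]; omega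
        · rw [List.map_singleton, List.prod_singleton, dU_mul hx.1 hp, hpd, hd, neg_mul_neg, one_mul]
    · exact commL_bad_big hx.1 h4 hd hb

/-- Any two blocks of determinant `-1`. -/
theorem commL_neg_pair {x y : (ZMod 3)[X]} (hx : NegBlock x) (hy : NegBlock y) : CommL [x, y] := by
  obtain ⟨hxd, hx⟩ := hx
  obtain ⟨hyd, hy⟩ := hy
  have hswap : ∀ {a b : (ZMod 3)[X]}, CommL [a, b] → CommL [b, a] := fun h => h.perm (List.Perm.swap _ _ _)
  have hdiff : CommL [quad3 2 1, quad3 2 2] := by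
    have h1 := pp_bad 1 (by decide)
    have h2 := pp_bad 2 (by decide)
    refine CommL.merge h1.1 h2.1 (coprime_pp_quad h1 h2 (by rw [quad3_natDegree, quad3_natDegree]) ?_)
      (commL_big_three (h1.1.mul h2.1) ?_ (by simp) ?_)
    · intro h
      have := congrArg (fun f => coeff f 1) h
      simp only [quad3_coeff1] at this
      exact absurd this (by decide)
    · rw [natDegree_mul h1.1.1.ne_zero h2.1.1.ne_zero, quad3_natDegree, quad3_natDegree]; omega
    · have e : (2 : ZMod 3) = ((-1 : (ZMod 3)ˣ) : ZMod 3) := by decide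
      rw [List.map_singleton, List.prod_singleton, dU_mul h1.1 h2.1]
      conv_lhs => rw [e]
      rw [quad3_dU, quad3_dU, neg_mul_neg, one_mul]
  rcases hx with ⟨hxs, hx'⟩ | rfl | rfl <;> rcases hy with ⟨hys, hy'⟩ | rfl | rfl
  · rcases (show (x.natDegree = 1 ∧ y.natDegree = 1) ∨ 3 ≤ x.natDegree ∨ 3 ≤ y.natDegree by
      rcases hxs.2 with a | a | ⟨_, a⟩ <;> rcases hys.2 with c | c | ⟨_, c⟩ <;>
        first | omega | (rw [a] at hxd; exact absurd hxd (by decide)) | (rw [c] at hyd; exact absurd hyd (by decide)))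
      with ⟨a, c⟩ | a | c
    · obtain ⟨t, rfl⟩ := exists_lin hxs.1 a
      obtain ⟨t', rfl⟩ := exists_lin hys.1 c
      rw [dU_lin'] at hxd hyd
      rw [hxd, hyd]
      exact commL_lin_replicate (-1) (r := 2) (by simp)
    · exact commL_big_three hxs.1 a (by simpa using hys) (by simp [hxd, hyd])
    · exact hswap (commL_big_three hys.1 c (by simpa using hxs) (by simp [hxd, hyd]))
  · exact commL_neg_bad hxs hxd hx' (by decide)
  · exact commL_neg_bad hxs hxd hx' (by decide)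
  · exact hswap (commL_neg_bad hys hyd hy' (by decide))
  · exact commL_bad11
  · exact hdiff
  · exact hswap (commL_neg_bad hys hyd hy' (by decide))
  · exact hswap hdiff
  · exact commL_bad22

/-- Lists without unipotent-type quadratic blocks. -/
theorem commL_noJ : ∀ (k : ℕ) (l : List (ZMod 3)[X]), l.length ≤ k →
    (∀ f ∈ l, PP f ∧ f ≠ quad3 1 1 ∧ f ≠ quad3 1 2) → (l.map dU).prod = 1 → CommL l
  | 0, l, h, _, _ => by
    rw [List.length_eq_zero_iff.mp (Nat.le_zero.mp h)]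
    exact commL_nil
  | k + 1, l, hk, hl, hprod => by
    classical
    rcases l with _ | ⟨x, r⟩
    · exact commL_nil
    obtain ⟨hx, hx1, hx2⟩ := hl x (by simp)
    rw [List.map_cons, List.prod_cons] at hprod
    by_cases hd : dU x = 1
    · rw [hd, one_mul] at hprod
      refine CommL.cons ?_ (commL_noJ k r (by simp at hk; omega) (fun f hf => hl f (by simp [hf])) hprod)
      rcases (show x.natDegree = 1 ∨ x.natDegree = 2 ∨ 3 ≤ x.natDegree by have := hx.1.2.1; omega) with h | h | h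
      · obtain ⟨t, rfl⟩ := exists_lin hx.1 h
        exact commL_lin_replicate t (r := 1) (by rw [pow_one]; exact (dU_lin' t).symm.trans hd)
      · have hneg : ∀ b, dU (quad3 2 b) = -1 := fun b => by
          simpa [show ((-1 : (ZMod 3)ˣ) : ZMod 3) = 2 by decide] using quad3_dU (-1) b
        rcases quad_three hx h with rfl | rfl | rfl | rfl | rfl
        · exact commL_quadQ
        · rw [hneg] at hd; exact absurd hd (by decide)
        · rw [hneg] at hd; exact absurd hd (by decide)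
        · exact absurd rfl hx1
        · exact absurd rfl hx2
      · exact commL_big_three hx.1 h (by simp) (by simpa using hd)
    · obtain ⟨y, hy, hyd⟩ : ∃ y ∈ r, dU y ≠ 1 := by
        by_contra hc
        push Not at hc
        rw [List.prod_eq_one (fun u hu => by
          obtain ⟨f, hf, rfl⟩ := List.mem_map.mp hu
          exact hc f hf), mul_one] at hprod
        exact hd hprod
      have hp := List.perm_cons_erase hy
      refine CommL.perm ?_ (hp.cons x)
      have hpair := commL_neg_pair (pp_neg hx hd) (pp_neg (hl y (by simp [hy])).1 hyd)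
      refine hpair.append (commL_noJ k (r.erase y) ?_ (fun f hf => hl f (by simp [List.mem_of_mem_erase hf])) ?_)
      · simp at hk
        rw [List.length_erase_of_mem hy]; omega
      · rw [((hp.map dU).prod_eq), List.map_cons, List.prod_cons, (pp_neg hx hd).1,
          (pp_neg (hl y (by simp [hy])).1 hyd).1, ← mul_assoc, neg_mul_neg, one_mul, one_mul] at hprod
        exact hprod

theorem pp_jordan (t : (ZMod 3)ˣ) (b : ZMod 3) (hb : -2 * (t : ZMod 3) = b) : PP (quad3 1 b) := by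
  refine ⟨quad3_good 1 b one_ne_zero, lin t, 2, irreducible_X_sub_C _, monic_X_sub_C _, ?_⟩
  have h1 : (t : ZMod 3) * t = 1 := by rcases units_zmod_three t with rfl | rfl <;> decide
  change X ^ 2 + C b * X + C (1 : ZMod 3) = (X - C (t : ZMod 3)) ^ 2
  rw [← hb, ← h1]
  simp only [map_mul, map_neg, map_ofNat]
  ring

/-- A single Jordan block of size two with a pair of negative blocks. -/
theorem commL_j_pair {b : ZMod 3} (hJ : PP (quad3 1 b)) (hb : b = 1 ∨ b = 2) {x y : (ZMod 3)[X]}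
    (hx : PP x) (hy : PP y) (hxd : dU x ≠ 1) (hyd : dU y ≠ 1) : CommL [quad3 1 b, x, y] := by
  have hJd : dU (quad3 1 b) = 1 := by simpa using quad3_dU 1 b
  have hJs : Steppable (quad3 1 b) := ⟨hJ.1, Or.inr (Or.inr ⟨quad3_natDegree 1 b, hJd⟩)⟩
  obtain ⟨hxe, hx'⟩ := pp_neg hx hxd
  obtain ⟨hye, hy'⟩ := pp_neg hy hyd
  have hbad : ∀ {p q : (ZMod 3)[X]}, PP p → PP q → dU p = -1 → dU q = -1 → NegBlock q →
      (p = quad3 2 1 ∨ p = quad3 2 2) → CommL [quad3 1 b, p, q] := by
    intro p q hp hq hpd hqd hqn hpk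
    have hne : quad3 1 b ≠ p := by
      rintro rfl
      rw [hJd] at hpd
      exact absurd hpd (by decide)
    have hpdeg : p.natDegree = 2 := by rcases hpk with rfl | rfl <;> exact quad3_natDegree _ _
    refine CommL.merge hJ.1 hp.1 (coprime_pp_quad hJ hp (by rw [quad3_natDegree, hpdeg]) hne) ?_
    refine commL_neg_pair ⟨?_, Or.inl ⟨⟨hJ.1.mul hp.1, Or.inr (Or.inl ?_)⟩, Or.inr (Or.inl ?_)⟩⟩ hqn
    · rw [dU_mul hJ.1 hp.1, hJd, hpd, one_mul]
    all_goals (rw [natDegree_mul hJ.1.1.ne_zero hp.1.1.ne_zero, quad3_natDegree, hpdeg] <;> omega)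
  rcases hx' with ⟨hxs, hx''⟩ | hxb
  · rcases hy' with ⟨hys, hy''⟩ | hyb
    · rcases (show 3 ≤ x.natDegree ∨ 3 ≤ y.natDegree ∨ (x.natDegree = 1 ∧ y.natDegree = 1) by
        rcases hxs.2 with a | a | ⟨_, a⟩ <;> rcases hys.2 with c | c | ⟨_, c⟩ <;>
          first | omega | (rw [a] at hxe; exact absurd hxe (by decide)) | (rw [c] at hye; exact absurd hye (by decide)))
        with a | c | ⟨a, c⟩
      · refine (commL_big_three hxs.1 a (r := [quad3 1 b, y]) ?_ ?_).perm (List.Perm.swap _ _ _)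
        · intro f hf; simp at hf; rcases hf with rfl | rfl
          exacts [hJs, hys]
        · simp [hxe, hye, hJd]
      · refine (commL_big_three hys.1 c (r := [quad3 1 b, x]) ?_ ?_).perm ?_
        · intro f hf; simp at hf; rcases hf with rfl | rfl
          exacts [hJs, hxs]
        · simp [hxe, hye, hJd]
        · exact ((List.Perm.swap y x []).cons _).trans (List.Perm.swap _ _ _)
      · obtain ⟨t, rfl⟩ := exists_lin hxs.1 a
        obtain ⟨t', rfl⟩ := exists_lin hys.1 c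
        rw [dU_lin'] at hxe hye
        subst hxe hye
        rcases hb with rfl | rfl
        · refine CommL.merge hJ.1 (good_lin _) (coprime_lin_quad (by decide)).symm
            (commL_big_three (hJ.1.mul (good_lin _)) ?_ ?_ ?_)
          · rw [natDegree_mul hJ.1.1.ne_zero (good_lin _).1.ne_zero, quad3_natDegree, natDegree_X_sub_C]
          · intro f hf; simp at hf; subst hf
            exact hys
          · simp only [List.map_cons, List.map_nil, List.prod_cons, List.prod_nil, dU_mul hJ.1 (good_lin _),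
              dU_lin', hJd, mul_one, one_mul, neg_mul_neg]
        · exact commL_jm_neg
    · refine (hbad hy hx hye hxe (pp_neg hx hxd) hyb).perm ((List.Perm.swap y x []).cons _)
  · exact hbad hx hy hxe hye (pp_neg hy hyd) hxb

/-- A single Jordan block of size two with the rest. -/
theorem commL_j_rest {b : ZMod 3} (hJ : PP (quad3 1 b)) (hb : b = 1 ∨ b = 2) {r : List (ZMod 3)[X]}
    (hr : ∀ f ∈ r, PP f ∧ f ≠ quad3 1 1 ∧ f ≠ quad3 1 2) (hprod : (r.map dU).prod = 1) (hne : r ≠ []) :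
    CommL (quad3 1 b :: r) := by
  classical
  have hJd : dU (quad3 1 b) = 1 := by simpa using quad3_dU 1 b
  obtain ⟨x, hx⟩ := List.exists_mem_of_ne_nil r hne
  have hp := List.perm_cons_erase hx
  have hprod' : dU x * ((r.erase x).map dU).prod = 1 := by
    rwa [(hp.map dU).prod_eq, List.map_cons, List.prod_cons] at hprod
  obtain ⟨hxp, hx1, hx2⟩ := hr x hx
  have hrest : ∀ f ∈ r.erase x, PP f ∧ f ≠ quad3 1 1 ∧ f ≠ quad3 1 2 :=
    fun f hf => hr f (List.mem_of_mem_erase hf)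
  refine CommL.perm ?_ (hp.cons _)
  by_cases hd : dU x = 1
  · rw [hd, one_mul] at hprod'
    suffices h : CommL [quad3 1 b, x] from h.append (commL_noJ _ _ le_rfl hrest hprod')
    rcases (show x.natDegree = 1 ∨ x.natDegree = 2 ∨ 3 ≤ x.natDegree by have := hxp.1.2.1; omega) with h | h | h
    · obtain ⟨t, rfl⟩ := exists_lin hxp.1 h
      rw [dU_lin'] at hd
      subst hd
      rcases hb with rfl | rfl
      · exact commL_jp_one
      · refine CommL.merge hJ.1 (good_lin _) (coprime_lin_quad (by decide)).symm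
          (commL_big_three (hJ.1.mul (good_lin _)) ?_ (by simp) ?_)
        · rw [natDegree_mul hJ.1.1.ne_zero (good_lin _).1.ne_zero, quad3_natDegree, natDegree_X_sub_C]
        · simp only [List.map_cons, List.map_nil, List.prod_cons, List.prod_nil, dU_mul hJ.1 (good_lin _),
            dU_lin', hJd, mul_one, one_mul]
    · have hne' : quad3 1 b ≠ x := by
        rcases hb with rfl | rfl
        exacts [hx1.symm, hx2.symm]
      refine CommL.merge hJ.1 hxp.1 (coprime_pp_quad hJ hxp (by rw [quad3_natDegree, h]) hne')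
        (commL_big_three (hJ.1.mul hxp.1) ?_ (by simp) ?_)
      · rw [natDegree_mul hJ.1.1.ne_zero hxp.1.1.ne_zero, quad3_natDegree]; omega
      · simp [dU_mul hJ.1 hxp.1, hJd, hd]
    · exact (commL_big_three hxp.1 h (r := [quad3 1 b])
        (by simpa using ⟨hJ.1, Or.inr (Or.inr ⟨quad3_natDegree 1 b, hJd⟩)⟩) (by simp [hd, hJd])).perm
        (List.Perm.swap _ _ _)
  · obtain ⟨y, hy, hyd⟩ : ∃ y ∈ r.erase x, dU y ≠ 1 := by
      by_contra hc
      push Not at hc
      rw [List.prod_eq_one (fun u hu => by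
        obtain ⟨f, hf, rfl⟩ := List.mem_map.mp hu
        exact hc f hf), mul_one] at hprod'
      exact hd hprod'
    have hp2 := List.perm_cons_erase hy
    refine CommL.perm ?_ ((hp2.cons _).cons _)
    refine (commL_j_pair hJ hb hxp (hrest y hy).1 hd hyd).append
      (commL_noJ _ _ le_rfl (fun f hf => hrest f (List.mem_of_mem_erase hf)) ?_)
    rwa [(hp2.map dU).prod_eq, List.map_cons, List.prod_cons, (pp_neg hxp hd).1,
      (pp_neg (hrest y hy).1 hyd).1, ← mul_assoc, neg_mul_neg, one_mul, one_mul] at hprod'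

/-- The list of a three element field. -/
theorem commL_zmod_three {l : List (ZMod 3)[X]} (hl : ∀ f ∈ l, PP f) (hprod : (l.map dU).prod = 1)
    (hn : 3 ≤ (l.map natDegree).sum) : CommL l := by
  classical
  set s := l.count (quad3 1 1) with hs
  set t := l.count (quad3 1 2) with ht
  set r := l.filter (fun f => f ≠ quad3 1 1 ∧ f ≠ quad3 1 2) with hrdef
  have hne12 : quad3 1 1 ≠ quad3 (1 : ZMod 3) 2 := by
    intro h
    have := congrArg (fun f => coeff f 1) h
    simp only [quad3_coeff1] at this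
    exact absurd this (by decide)
  have hperm : l.Perm (List.replicate s (quad3 1 1) ++ List.replicate t (quad3 1 2) ++ r) := by
    refine List.perm_iff_count.mpr fun x => ?_
    rw [List.count_append, List.count_append]
    by_cases h1 : x = quad3 1 1
    · subst h1
      rw [List.count_replicate_self, List.count_replicate,
        List.count_eq_zero_of_not_mem (l := r) (fun h => by simp [hrdef] at h)]
      simp [beq_iff_eq, hne12.symm, ← hs]
    by_cases h2 : x = quad3 1 2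
    · subst h2
      rw [List.count_replicate_self, List.count_replicate,
        List.count_eq_zero_of_not_mem (l := r) (fun h => by simp [hrdef] at h)]
      simp [beq_iff_eq, hne12, ← ht]
    rw [List.count_replicate, List.count_replicate, hrdef, List.count_filter (by simp [h1, h2])]
    simp [beq_iff_eq, Ne.symm h1, Ne.symm h2]
  have hr : ∀ f ∈ r, PP f ∧ f ≠ quad3 1 1 ∧ f ≠ quad3 1 2 := fun f hf => by
    simp [hrdef] at hf
    exact ⟨hl f hf.1, hf.2⟩
  have hdp : dU (quad3 (1 : ZMod 3) 1) = 1 := by simpa using quad3_dU 1 1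
  have hdm : dU (quad3 (1 : ZMod 3) 2) = 1 := by simpa using quad3_dU 1 2
  have hrprod : (r.map dU).prod = 1 := by
    have := prod_perm hperm hprod
    simpa [List.map_replicate, hdp, hdm] using this
  have hno := commL_noJ _ r le_rfl hr hrprod
  have hJp : PP (quad3 (1 : ZMod 3) 1) := pp_jordan 1 1 (by decide)
  have hJm : PP (quad3 (1 : ZMod 3) 2) := pp_jordan (-1) 2 (by decide)
  have hrne : s + t = 1 → r ≠ [] := by
    intro h1 hr0
    rw [(hperm.map natDegree).sum_eq, hr0] at hn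
    simp only [List.map_append, List.map_replicate, List.map_nil, List.append_nil, List.sum_append,
      List.sum_replicate, smul_eq_mul, quad3_natDegree] at hn
    omega
  refine CommL.perm ?_ hperm
  rcases Nat.eq_zero_or_pos t with ht0 | htpos
  · rw [ht0, List.replicate_zero, List.append_nil]
    rcases (show s = 0 ∨ s = 1 ∨ 2 ≤ s by omega) with h | h | h
    · rw [h]; exact hno
    · rw [h]; exact commL_j_rest hJp (Or.inl rfl) hr hrprod (hrne (by omega))
    · exact (commL_groups commL_jp2 commL_jp3 s h).append hno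
  rcases Nat.eq_zero_or_pos s with hs0 | hspos
  · rw [hs0, List.replicate_zero, List.nil_append]
    rcases (show t = 1 ∨ 2 ≤ t by omega) with h | h
    · rw [h]; exact commL_j_rest hJm (Or.inr rfl) hr hrprod (hrne (by omega))
    · exact (commL_groups commL_jm2 commL_jm3 t h).append hno
  -- both kinds
  obtain ⟨s', hs'⟩ : ∃ k, s = k + 1 := ⟨s - 1, by omega⟩
  obtain ⟨t', ht'⟩ : ∃ k, t = k + 1 := ⟨t - 1, by omega⟩
  rw [hs', ht']
  refine CommL.append ?_ hno
  have hbig : CommL (quad3 1 1 :: quad3 1 2 ::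
      (List.replicate s' (quad3 1 1) ++ List.replicate t' (quad3 (1 : ZMod 3) 2))) := by
    refine CommL.merge hJp.1 hJm.1 (coprime_pp_quad hJp hJm (by rw [quad3_natDegree, quad3_natDegree]) hne12)
      (commL_big_three (hJp.1.mul hJm.1) ?_ ?_ ?_)
    · rw [natDegree_mul hJp.1.1.ne_zero hJm.1.1.ne_zero, quad3_natDegree, quad3_natDegree]; omega
    · intro f hf
      rcases List.mem_append.mp hf with h | h <;> rw [List.eq_of_mem_replicate h]
      · exact ⟨hJp.1, Or.inr (Or.inr ⟨quad3_natDegree _ _, hdp⟩)⟩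
      · exact ⟨hJm.1, Or.inr (Or.inr ⟨quad3_natDegree _ _, hdm⟩)⟩
    · simp only [List.map_cons, List.prod_cons, List.map_append, List.prod_append, List.map_replicate,
        List.prod_replicate, dU_mul hJp.1 hJm.1, hdp, hdm, one_pow, mul_one]
  refine hbig.perm ?_
  rw [List.replicate_succ, List.replicate_succ, List.cons_append]
  exact List.perm_middle.cons _

end CfsgLib.FGS.SLComm
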