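import Cfsg.Agent.Lib.FGS.SLComm.SmallTools

/-!
# Two elements
-/

set_option autoImplicit false

namespace CfsgLib.FGS.SLComm

open LinearMap Polynomial

/-- Matrix version of `commL_witness` with triangular factorisations. -/
theorem commL_witness_lu {F : Type} [Field F] {l : List F[X]} {n : ℕ} {G : Matrix (Fin n) (Fin n) F}
    (h : Rep l G) (La Ua Lb Ub : Matrix (Fin n) (Fin n) F)
    (hLa : ∀ i j, i < j → Matrix.of.symm La i j = 0) (hUa : ∀ i j, j < i → Matrix.of.symm Ua i j = 0)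
    (hLb : ∀ i j, i < j → Matrix.of.symm Lb i j = 0) (hUb : ∀ i j, j < i → Matrix.of.symm Ub i j = 0)
    (hda : (∏ i, La i i) * ∏ i, Ua i i = 1) (hdb : (∏ i, Lb i i) * ∏ i, Ub i i = 1)
    (hab : (La * Ua) * (Lb * Ub) = G * (Lb * Ub) * (La * Ua)) : CommL l := by
  refine commL_witness h (La * Ua) (Lb * Ub) ?_ ?_ hab
  · rw [Matrix.det_mul, Matrix.det_of_upperTriangular (M := Ua) (fun i j hij => hUa i j hij),
      Matrix.det_of_lowerTriangular La (fun i j hij => hLa i j hij)]
    exact hda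
  · rw [Matrix.det_mul, Matrix.det_of_upperTriangular (M := Ub) (fun i j hij => hUb i j hij),
      Matrix.det_of_lowerTriangular Lb (fun i j hij => hLb i j hij)]
    exact hdb

instance factPrimeTwo' : Fact (Nat.Prime 2) := ⟨Nat.prime_two⟩

theorem units_zmod_two (t : (ZMod 2)ˣ) : t = 1 := by
  revert t
  decide

/-- `(X + 1) ^ 2`. -/
noncomputable abbrev jTwo : (ZMod 2)[X] := lin 1 * lin 1

/-- `X ^ 2 + X + 1`. -/
noncomputable abbrev cTwo : (ZMod 2)[X] := X ^ 2 + X + 1

theorem jTwo_rep : Rep [jTwo] !![(0 : ZMod 2), 1; 1, 0] := by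
  have h := rep_quad (good_pair (1 : (ZMod 2)ˣ) 1).1 (good_pair (1 : (ZMod 2)ˣ) 1).2.1
  have e : (lin (1 : (ZMod 2)ˣ) * lin 1) = X ^ 2 - C 2 * X + C 1 := by
    simp only [lin, Units.val_one, map_one]
    rw [show (C 2 : (ZMod 2)[X]) = 2 from map_ofNat C 2]
    ring
  have h0 : jTwo.coeff 0 = 1 := by rw [jTwo, e]; simp
  have h1 : jTwo.coeff 1 = 0 := by rw [jTwo, e]; simp [coeff_one]; decide
  rw [h0, h1] at h
  have hm : (!![0, -1; 1, -0] : Matrix (Fin 2) (Fin 2) (ZMod 2)) = !![0, 1; 1, 0] := by decide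
  rwa [hm] at h

theorem good_quad {F : Type*} [Field F] {f : F[X]} (hm : f.Monic) (hd : f.natDegree = 2) (h0 : f.coeff 0 ≠ 0) :
    Good f := ⟨hm, by omega, h0⟩

theorem good_cTwo : Good cTwo ∧ cTwo.natDegree = 2 := by
  have hd : cTwo.natDegree = 2 := by
    unfold cTwo; compute_degree!
  refine ⟨good_quad ?_ hd ?_, hd⟩
  · unfold cTwo; monicity!
  · simp [cTwo]

theorem cTwo_rep : Rep [cTwo] !![(0 : ZMod 2), 1; 1, 1] := by
  have h := rep_quad good_cTwo.1 good_cTwo.2
  have h0 : cTwo.coeff 0 = 1 := by simp [cTwo]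
  have h1 : cTwo.coeff 1 = 1 := by simp [cTwo, coeff_one]
  rw [h0, h1] at h
  have hm : (!![0, -1; 1, -1] : Matrix (Fin 2) (Fin 2) (ZMod 2)) = !![0, 1; 1, 1] := by decide
  rwa [hm] at h

theorem commL_cTwo : CommL [cTwo] :=
  commL_witness_lu cTwo_rep !![1, 0; 1, 1] !![1, 1; 0, 1] !![1, 0; 1, 1] !![1, 0; 0, 1]
    (by decide) (by decide) (by decide) (by decide) (by decide) (by decide) (by decide)

theorem commL_jTwo2 : CommL [jTwo, jTwo] :=
  commL_witness_lu (jTwo_rep.append jTwo_rep)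
    !![1, 0, 0, 0; 0, 1, 0, 0; 0, 1, 1, 0; 1, 0, 0, 1] !![1, 0, 1, 1; 0, 1, 1, 0; 0, 0, 1, 1; 0, 0, 0, 1]
    !![1, 0, 0, 0; 1, 1, 0, 0; 1, 1, 1, 0; 0, 1, 1, 1] !![1, 1, 1, 1; 0, 1, 1, 0; 0, 0, 1, 0; 0, 0, 0, 1]
    (by decide) (by decide) (by decide) (by decide) (by decide) (by decide) (by decide)

theorem commL_jTwo3 : CommL [jTwo, jTwo, jTwo] :=
  commL_witness_lu (jTwo_rep.append (jTwo_rep.append jTwo_rep))
    !![1, 0, 0, 0, 0, 0; 1, 1, 0, 0, 0, 0; 0, 0, 1, 0, 0, 0; 1, 0, 1, 1, 0, 0; 0, 0, 1, 0, 1, 0; 1, 1, 1, 0, 1, 1]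
    !![1, 1, 1, 0, 1, 1; 0, 1, 0, 0, 1, 1; 0, 0, 1, 1, 1, 1; 0, 0, 0, 1, 0, 1; 0, 0, 0, 0, 1, 0; 0, 0, 0, 0, 0, 1]
    !![1, 0, 0, 0, 0, 0; 1, 1, 0, 0, 0, 0; 0, 1, 1, 0, 0, 0; 1, 0, 1, 1, 0, 0; 1, 1, 0, 0, 1, 0; 0, 1, 1, 0, 0, 1]
    !![1, 0, 0, 0, 0, 0; 0, 1, 0, 1, 0, 0; 0, 0, 1, 1, 1, 1; 0, 0, 0, 1, 0, 0; 0, 0, 0, 0, 1, 1; 0, 0, 0, 0, 0, 1]
    (by decide) (by decide) (by decide) (by decide) (by decide) (by decide) (by decide)

theorem commL_jTwo_lin : CommL [jTwo, lin 1] :=
  commL_witness_lu (jTwo_rep.append (rep_lin 1))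
    !![1, 0, 0; 0, 1, 0; 0, 0, 1] !![1, 0, 1; 0, 1, 1; 0, 0, 1]
    !![1, 0, 0; 0, 1, 0; 1, 1, 1] !![1, 0, 1; 0, 1, 1; 0, 0, 1]
    (by decide) (by decide) (by decide) (by decide) (by decide) (by decide) (by decide)

theorem quad_two {f : (ZMod 2)[X]} (hf : Good f) (hd : f.natDegree = 2) : f = jTwo ∨ f = cTwo := by
  have he : f = X ^ 2 + C (f.coeff 1) * X + C (f.coeff 0) := by
    conv_lhs => rw [hf.1.as_sum, hd]
    simp [Finset.sum_range_succ]
    ring
  have key : ∀ x : ZMod 2, x = 0 ∨ x = 1 := by decide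
  have h0 : f.coeff 0 = 1 := (key _).resolve_left hf.2.2
  rcases key (f.coeff 1) with h1 | h1 <;> rw [he, h0, h1]
  · left
    have h2 : (C 2 : (ZMod 2)[X]) = 0 := by rw [show (2 : ZMod 2) = 0 from rfl, map_zero]
    rw [map_ofNat C 2] at h2
    simp only [jTwo, lin, Units.val_one, map_one, map_zero, zero_mul, add_zero]
    linear_combination X * h2
  · right
    simp [cTwo]

theorem commL_big_two {f : (ZMod 2)[X]} (hf : Good f) (hd : 3 ≤ f.natDegree) : CommL [f] :=
  commL_big hf hd (Or.inl rfl) (units_zmod_two _)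

/-- `J` next to a large block. -/
theorem commL_jTwo_big {W : (ZMod 2)[X]} (hW : PP W) (hd : 3 ≤ W.natDegree) : CommL [W, jTwo] := by
  have hj := (good_pair (1 : (ZMod 2)ˣ) 1).1
  by_cases hcop : IsCoprime W jTwo
  · refine CommL.merge hW.1 hj hcop (commL_big_two (hW.1.mul hj) ?_)
    rw [natDegree_mul hW.1.1.ne_zero hj.1.ne_zero]
    omega
  · obtain ⟨D, hDd, hDi, hDn⟩ := exists_alpha (F := ZMod 2) (m := W.natDegree - 1) (by omega) 1
      (fun _ h3 => absurd h3 (by simp))
    have hdv : dv W = ((1 : (ZMod 2)ˣ) : ZMod 2) := by rw [← hW.1.coe_dU, units_zmod_two (dU W)]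
    let T : Matrix (Fin 3) (Fin 3) (ZMod 2) := !![1, 0, 0; 1, 1, 0; 0, 0, 1]
    let mk : ∀ (M M' : Matrix (Fin 3) (Fin 3) (ZMod 2)), M' * M = 1 → M * M' = 1 →
        ((Fin 3 → ZMod 2) ≃ₗ[ZMod 2] (Fin 3 → ZMod 2)) :=
      fun M M' h h' => Matrix.toLin'OfInv h h'
    let A := mk T T (by decide) (by decide)
    refine commL_attach hW.1 hj A ?_ ?_ ((X - C 1) ^ 2) ?_ (m := W.natDegree - 1) (by omega) D ?_ ?_
    · obtain ⟨e, he⟩ := jTwo_rep (AdjoinRoot jTwo) (rootL jTwo) (by
        simp only [Blk]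
        exact ⟨PUnit.{1}, inferInstance, inferInstance, 0, LinearEquiv.prodUnique.symm, inferInstance,
          fun x => Prod.ext rfl rfl⟩)
      let E : (ZMod 2 × AdjoinRoot jTwo) ≃ₗ[ZMod 2] (Fin 3 → ZMod 2) :=
        { toFun := fun p => ![p.1, e p.2 0, e p.2 1]
          invFun := fun w => (w 0, e.symm ![w 1, w 2])
          map_add' := fun p q => by funext i; fin_cases i <;> simp
          map_smul' := fun c p => by funext i; fin_cases i <;> simp
          left_inv := fun p => by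
            refine Prod.ext rfl ?_
            apply e.injective
            rw [LinearEquiv.apply_symm_apply]
            funext i
            fin_cases i <;> rfl
          right_inv := fun w => by funext i; fin_cases i <;> simp }
      let P := mk !![1, 0, 0; 0, 1, 0; 0, 1, 1] !![1, 0, 0; 0, 1, 0; 0, 1, 1] (by decide) (by decide)
      let Q := mk !![0, 0, 1; 0, 1, 0; 1, 1, 1] !![1, 1, 1; 0, 1, 0; 1, 0, 0] (by decide) (by decide)
      have key : ∀ (u : ZMod 2) (y : Fin 2 → ZMod 2),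
          conjE P A ((conjE Q A)⁻¹ ![u, y 0, y 1]) = ![u, y 1, y 0] := by
        intro u y
        revert u y
        decide
      refine Fac.equiv E.symm (g := ((conjE P A * (conjE Q A)⁻¹ : (Fin 3 → ZMod 2) ≃ₗ[ZMod 2] (Fin 3 → ZMod 2)) :
        Module.End (ZMod 2) (Fin 3 → ZMod 2))) (fun x => E.injective ?_) ⟨P, Q, rfl⟩
      rw [LinearEquiv.apply_symm_apply]
      obtain ⟨⟨u, v⟩, rfl⟩ := E.surjective x
      rw [LinearEquiv.symm_apply_apply]
      set y : Fin 2 → ZMod 2 := e v with hy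
      have hEx : ∀ (u : ZMod 2) (w : AdjoinRoot jTwo), E (u, w) = ![u, (e w) 0, (e w) 1] := fun u w => rfl
      rw [hEx]
      change conjE P A ((conjE Q A)⁻¹ ![u, y 0, y 1]) = E (dv W * u, rootL jTwo v)
      rw [key, hEx, he, hdv]
      funext i
      fin_cases i <;> simp [Matrix.toLin'_apply, Matrix.mulVec, dotProduct, hy, Fin.sum_univ_two]
    · intro s
      exact ⟨1, Commute.one_left _, by rw [map_one, units_zmod_two s]⟩
    · refine LinearMap.ext fun x => ?_
      have key : ∀ x : Fin 3 → ZMod 2, A (A x) - A x - (A x - x) = 0 := by decide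
      have := key x
      simp only [map_pow, map_sub, aeval_X, aeval_C, map_one, LinearMap.zero_apply]
      rw [pow_two, Module.End.mul_apply, LinearMap.sub_apply, Module.End.one_apply, LinearMap.sub_apply,
        Module.End.one_apply, map_sub]
      exact this
    · rw [units_zmod_two (LinearEquiv.det D.α * LinearEquiv.det A)]
    · refine (coprime_of_degree_ne (irreducible_X_sub_C _) hDi ?_).pow_left
      rw [natDegree_X_sub_C, hDn]
      omega

/-- The list of a two element field. -/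
theorem commL_zmod_two {l : List (ZMod 2)[X]} (hl : ∀ f ∈ l, PP f)
    (hn : 3 ≤ (l.map natDegree).sum) : CommL l := by
  classical
  have single : ∀ f ∈ l, f ≠ jTwo → CommL [f] := by
    intro f hf hne
    obtain ⟨hg, _⟩ := hl f hf
    rcases (show f.natDegree = 1 ∨ f.natDegree = 2 ∨ 3 ≤ f.natDegree by have := hg.2.1; omega) with h | h | h
    · obtain ⟨t, rfl⟩ := exists_lin hg h
      exact commL_lin_replicate t (r := 1) (by rw [units_zmod_two t, one_pow])
    · rcases quad_two hg h with rfl | rfl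
      · exact absurd rfl hne
      · exact commL_cTwo
    · exact commL_big_two hg h
  have others : ∀ r : List (ZMod 2)[X], (∀ f ∈ r, f ∈ l ∧ f ≠ jTwo) → CommL r := by
    intro r
    induction r with
    | nil => exact fun _ => commL_nil
    | cons a r ih =>
      intro h
      exact CommL.cons (single a (h a (by simp)).1 (h a (by simp)).2) (ih fun f hf => h f (by simp [hf]))
  set t := l.count jTwo with ht
  set rest := l.filter (fun f => f ≠ jTwo) with hrest
  have hperm : l.Perm (List.replicate t jTwo ++ rest) := by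
    refine List.perm_iff_count.mpr fun x => ?_
    by_cases hx : x = jTwo
    · subst hx
      rw [List.count_append, List.count_replicate_self,
        List.count_eq_zero_of_not_mem (l := rest) (fun h => by simp [hrest] at h), add_zero, ht]
    · rw [List.count_append, List.count_replicate, hrest, List.count_filter (by simpa using hx)]
      simp [beq_iff_eq, Ne.symm hx]
  have hrestmem : ∀ f ∈ rest, f ∈ l ∧ f ≠ jTwo := fun f hf => by simpa [hrest] using hf
  refine CommL.perm ?_ hperm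
  rcases (show t = 0 ∨ t = 1 ∨ 2 ≤ t by omega) with h | h | h
  · rw [h]; exact others rest hrestmem
  · rw [h]
    rcases rest with _ | ⟨x, r⟩
    · exfalso
      rw [(hperm.map natDegree).sum_eq, h] at hn
      simp only [List.replicate_one, List.append_nil, List.map_cons, List.map_nil, List.sum_cons, List.sum_nil,
        add_zero] at hn
      rw [show jTwo.natDegree = 2 from (good_pair (1 : (ZMod 2)ˣ) 1).2.1] at hn
      omega
    · obtain ⟨hxl, hxne⟩ := hrestmem x (by simp)
      have hr := others r fun f hf => hrestmem f (by simp [hf])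
      suffices h2 : CommL [jTwo, x] from h2.append hr
      obtain ⟨hg, hp⟩ := hl x hxl
      rcases (show x.natDegree = 1 ∨ x.natDegree = 2 ∨ 3 ≤ x.natDegree by have := hg.2.1; omega) with h | h | h
      · obtain ⟨t, rfl⟩ := exists_lin hg h
        rw [units_zmod_two t]
        exact commL_jTwo_lin
      · rcases quad_two hg h with rfl | rfl
        · exact absurd rfl hxne
        have hj := (good_pair (1 : (ZMod 2)ˣ) 1).1
        refine CommL.merge hj hg ?_ (commL_big_two (hj.mul hg) ?_)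
        · have hroot : ∀ y : ZMod 2, y ^ 2 + y + 1 ≠ 0 := by decide
          have hl1 : IsCoprime (lin (1 : (ZMod 2)ˣ)) cTwo :=
            (irreducible_X_sub_C _).coprime_iff_not_dvd.mpr fun hd => hroot 1 (by
              have := dvd_iff_isRoot.mp hd
              simpa [cTwo, IsRoot] using this)
          exact hl1.mul_left hl1
        · rw [natDegree_mul hj.1.ne_zero hg.1.ne_zero,
            show jTwo.natDegree = 2 from (good_pair (1 : (ZMod 2)ˣ) 1).2.1]
          omega
      · exact (commL_jTwo_big ⟨hg, hp⟩ h).perm (List.Perm.swap _ _ _)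
  · exact (commL_groups commL_jTwo2 commL_jTwo3 t h).append (others rest hrestmem)

end CfsgLib.FGS.SLComm
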